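import Cfsg.Agent.RuLat.Main

/-!
# The representation of the fourfold cover of the Rudvalis group on `ℂ²⁸` (helper289, S4899)

`rho` : the representation of `fourRu`; `rho_cv` : its values on the lattice; `inner_rho` : the inner products with the
minimal vectors.
-/

set_option autoImplicit false

open scoped ComplexConjugate
open Cfsg Module

namespace Cfsg.Agent.H289.Eight.RuRep

open Cfsg.Spor Cfsg.Agent.RuLat Cfsg.Agent.SporadicB GaussianInt

/-- the space -/
abbrev V : Type := RuIdx → ℂ

/-- complexification -/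
noncomputable def cv (x : RuVec) : V := fun q => toComplex (x q)

theorem cv_add (x y : RuVec) : cv (x + y) = cv x + cv y := by
  funext q
  exact map_add toComplex _ _

theorem cv_smul (a : GaussianInt) (x : RuVec) : cv (a • x) = toComplex a • cv x := by
  funext q
  exact map_mul toComplex _ _

theorem cv_zero : cv 0 = 0 := by
  funext q
  exact map_zero toComplex

theorem cv_sum {ι : Type*} (s : Finset ι) (c : ι → RuVec) : cv (∑ j ∈ s, c j) = ∑ j ∈ s, cv (c j) := by
  classical
  induction s using Finset.induction_on with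
  | empty => rw [Finset.sum_empty, Finset.sum_empty, cv_zero]
  | insert a s ha ih => rw [Finset.sum_insert ha, Finset.sum_insert ha, cv_add, ih]

/-! ### the frame -/

theorem mem_rj {v : RuVec} (hv : v ∈ ruLattice) : ruRj v ∈ ruLattice := by
  rw [ruLattice, AddSubgroup.mem_sInf] at hv ⊢
  exact fun L hL => (hL.2 v (hv L hL)).2.1

theorem mem_rk {v : RuVec} (hv : v ∈ ruLattice) : ruRk v ∈ ruLattice := by
  rw [ruLattice, AddSubgroup.mem_sInf] at hv ⊢
  exact fun L hL => (hL.2 v (hv L hL)).2.2.1

theorem mem_shift {v : RuVec} (hv : v ∈ ruLattice) : ruShift v ∈ ruLattice := by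
  rw [ruLattice, AddSubgroup.mem_sInf] at hv ⊢
  exact fun L hL => (hL.2 v (hv L hL)).2.2.2.2

/-- the vector with entry `4` in place `q` -/
def four (q : RuIdx) : RuVec := fun p => if p = q then 4 else 0

theorem four_head : ruTable.head (by simp [ruTable]) = four (0, 0) := by
  funext ⟨n, t⟩
  revert n t
  decide

theorem four_mem0 : four (0, 0) ∈ ruLattice := by
  rw [← four_head, ruLattice, AddSubgroup.mem_sInf]
  exact fun L hL => hL.1 _ (List.head_mem _)

theorem shift_four (n : Fin 7) (t : Fin 4) : ruShift (four (n, t)) = four (n - 1, t) := by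
  funext ⟨m, s⟩
  revert m s n t
  decide

theorem rj_four (n : Fin 7) : ruRj (four (n, 0)) = gI • four (n, 1) := by
  funext ⟨m, s⟩
  revert m s n
  decide

theorem rk_four (n : Fin 7) : ruRk (four (n, 0)) = gI • four (n, 2) := by
  funext ⟨m, s⟩
  revert m s n
  decide

theorem rk_four' (n : Fin 7) : ruRk (four (n, 1)) = four (n, 3) := by
  funext ⟨m, s⟩
  revert m s n
  decide

theorem mem_of_gI {x : RuVec} (h : gI • x ∈ ruLattice) : x ∈ ruLattice := by
  have h1 := neg_mem (gI_smul_mem_ruLattice h)
  rwa [smul_smul, gI_mul_self, neg_smul, one_smul, neg_neg] at h1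

theorem four_mem (q : RuIdx) : four q ∈ ruLattice := by
  obtain ⟨n, t⟩ := q
  have st : ∀ a b : Fin 7, four (a, 0) ∈ ruLattice → a - 1 = b → four (b, 0) ∈ ruLattice := by
    intro a b ha hab
    have h := mem_shift ha
    rwa [shift_four, hab] at h
  have h6 := st 0 6 four_mem0 (by decide)
  have h5 := st 6 5 h6 (by decide)
  have h4 := st 5 4 h5 (by decide)
  have h3 := st 4 3 h4 (by decide)
  have h2 := st 3 2 h3 (by decide)
  have h1' := st 2 1 h2 (by decide)
  have h1 : ∀ n : Fin 7, four (n, 0) ∈ ruLattice := by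
    intro n
    fin_cases n
    exacts [four_mem0, h1', h2, h3, h4, h5, h6]
  fin_cases t
  · exact h1 n
  · refine mem_of_gI ?_
    have h := mem_rj (h1 n)
    rwa [rj_four] at h
  · refine mem_of_gI ?_
    have h := mem_rk (h1 n)
    rwa [rk_four] at h
  · have h2 : four (n, 1) ∈ ruLattice := by
      refine mem_of_gI ?_
      have h := mem_rj (h1 n)
      rwa [rj_four] at h
    have h := mem_rk h2
    rwa [rk_four'] at h

/-- the frame vectors as elements of the lattice -/
def E (q : RuIdx) : ruLattice := ⟨four q, four_mem q⟩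

theorem four_smul_eq (x : RuVec) : (4 : GaussianInt) • x = ∑ q, x q • four q := by
  funext p
  rw [Finset.sum_apply, Finset.sum_eq_single p]
  · simp [four, mul_comm]
  · intro q _ hq
    simp [four, Ne.symm hq]
  · intro h
    exact absurd (Finset.mem_univ p) h

/-! ### the representation -/

/-- the linear map defined by `f` -/
noncomputable def rl (f : fourRu) : V →ₗ[ℂ] V :=
  (Pi.basisFun ℂ RuIdx).constr ℂ (fun q => (4 : ℂ)⁻¹ • cv (f.1 (E q)))

theorem rl_single (f : fourRu) (q : RuIdx) : rl f (Pi.single q 1) = (4 : ℂ)⁻¹ • cv (f.1 (E q)) := by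
  have h := (Pi.basisFun ℂ RuIdx).constr_basis ℂ (fun q => (4 : ℂ)⁻¹ • cv (f.1 (E q))) q
  rwa [Pi.basisFun_apply] at h

theorem toComplex_four : toComplex 4 = 4 := by
  have h : (4 : GaussianInt) = ((4 : ℕ) : GaussianInt) := rfl
  rw [h, map_natCast]
  norm_num

theorem cv_four (q : RuIdx) : cv (four q) = (4 : ℂ) • Pi.single q 1 := by
  funext p
  by_cases h : p = q
  · subst h
    simp [cv, four, toComplex_four]
  · simp [cv, four, h]

theorem four_cv (x : RuVec) : (4 : ℂ) • cv x = ∑ q, toComplex (x q) • cv (four q) := by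
  have h := congrArg cv (four_smul_eq x)
  rw [cv_smul, toComplex_four, cv_sum] at h
  rw [h]
  exact Finset.sum_congr rfl fun q _ => cv_smul _ _

theorem cv_eq (x : RuVec) : cv x = ∑ q, toComplex (x q) • Pi.single q 1 := by
  have h := four_cv x
  simp only [cv_four] at h
  have h4 : (4 : ℂ) ≠ 0 := by norm_num
  apply smul_right_injective V h4
  dsimp only
  rw [h, Finset.smul_sum]
  exact Finset.sum_congr rfl fun q _ => smul_comm _ _ _

theorem rl_cv (f : fourRu) (x : ruLattice) : rl f (cv x) = cv (f.1 x) := by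
  have h4 : (4 : ℂ) ≠ 0 := by norm_num
  apply smul_right_injective V h4
  dsimp only
  have h1 := four_sum f.2 Finset.univ (fun q => (x : RuVec) q) four four_mem
  have e : (⟨∑ q, (x : RuVec) q • four q, sum_mem' _ _ _ four_mem⟩ : ruLattice) =
      ⟨(4 : GaussianInt) • (x : RuVec), smul_mem _ x.2⟩ := Subtype.ext (four_smul_eq _).symm
  rw [e, four_smul f.2 _ _ x.2] at h1
  have h2 := congrArg cv h1
  rw [cv_smul, toComplex_four, cv_sum] at h2
  have h3 : ((⟨(x : RuVec), x.2⟩ : ruLattice)) = x := rfl
  rw [h3] at h2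
  rw [h2, cv_eq (x : RuVec), map_sum, Finset.smul_sum]
  refine Finset.sum_congr rfl fun q _ => ?_
  rw [map_smul, rl_single, cv_smul, smul_smul, smul_smul,
    show (4 : ℂ) * toComplex ((x : RuVec) q) * 4⁻¹ = toComplex ((x : RuVec) q) by field_simp]
  rfl

theorem ext_single {W : Type*} [AddCommGroup W] [Module ℂ W] {S T : V →ₗ[ℂ] W}
    (h : ∀ x : ruLattice, S (cv x) = T (cv x)) : S = T := by
  refine (Pi.basisFun ℂ RuIdx).ext fun q => ?_
  have h4 : (4 : ℂ) ≠ 0 := by norm_num
  have h1 := h (E q)
  rw [show ((E q : ruLattice) : RuVec) = four q from rfl, cv_four, map_smul, map_smul] at h1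
  rw [Pi.basisFun_apply]
  exact smul_right_injective W h4 h1

/-- **the representation** -/
noncomputable def rho : Representation ℂ fourRu V where
  toFun := rl
  map_one' := ext_single fun x => by
    rw [rl_cv]
    rfl
  map_mul' f g := ext_single fun x => by
    rw [rl_cv]
    change cv (f.1 (g.1 x)) = rl f (rl g (cv x))
    rw [rl_cv, rl_cv]

theorem rho_cv (f : fourRu) (x : ruLattice) : rho f (cv x) = cv (f.1 x) := rl_cv f x

/-- the standard inner product, linear in the first variable -/
noncomputable def ip (v : V) : V →ₗ[ℂ] ℂ where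
  toFun x := ∑ q, x q * conj (v q)
  map_add' x y := by
    simp only [Pi.add_apply, add_mul, Finset.sum_add_distrib]
  map_smul' c x := by
    simp only [Pi.smul_apply, smul_eq_mul, mul_assoc, Finset.mul_sum, RingHom.id_apply]

theorem ip_apply (v x : V) : ip v x = ∑ q, x q * conj (v q) := rfl

theorem ip_cv (x y : RuVec) : ip (cv x) (cv y) = toComplex (herm y x) := by
  rw [ip_apply, herm, map_sum]
  refine Finset.sum_congr rfl fun q _ => ?_
  rw [map_mul, toComplex_star]
  rfl

theorem ip_smul (c : ℂ) (v x : V) : ip (c • v) x = conj c * ip v x := by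
  rw [ip_apply, ip_apply, Finset.mul_sum]
  refine Finset.sum_congr rfl fun q _ => ?_
  rw [Pi.smul_apply, smul_eq_mul, map_mul]
  ring

/-- `rho` is unitary on the lattice -/
theorem ip_rho (f : fourRu) (x : ruLattice) (y : V) : ip (cv x) (rho f y) = ip (cv ((f⁻¹).1 x)) y := by
  have h : ip (cv x) ∘ₗ rho f = ip (cv ((f⁻¹).1 x)) := by
    refine ext_single fun z => ?_
    rw [LinearMap.comp_apply, rho_cv, ip_cv, ip_cv]
    congr 1
    have h1 : (x : ruLattice) = f.1 ((f⁻¹).1 x) := by
      change x = (f * f⁻¹).1 x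
      rw [mul_inv_cancel]
      rfl
    conv_lhs => rw [h1]
    exact four_herm f.2 _ _
  exact congrArg (fun T => T y) h

end Cfsg.Agent.H289.Eight.RuRep
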