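import Cfsg.Agent.H289.Eight.SqIrr
import Cfsg.Agent.H289.Eight.RuRep
import Cfsg.Agent.H843.IMC.Frame3
import Cfsg.Agent.H690.Spor.Ru
import Cfsg.Agent.Blocks.Deflate
import Cfsg.Agent.H95.StemCover
import Cfsg.Agent.S2051
import Cfsg.Prelude.Def_DegreeGraph
import Cfsg.Agent.H689.DD

/-!
# `378` and `406` are degrees of irreducible characters of the Rudvalis group (helper289, S4899)

The permutation character on the 4060 lines is `1 + χ783 + χ3276`, so `End V`, `V = ℂ²⁸`, has the character `1 + χ783`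
(`end_char`), and the symmetric and the alternating square of `V` are irreducible. The Schur multiplier has order two
(S2051), so the fourfold cover has a linear character with value `-1` at the scalar `i`.
-/

set_option autoImplicit false
set_option maxRecDepth 100000

open scoped ComplexConjugate commutatorElement
open Cfsg Module

namespace Cfsg.Agent.H289.Eight.RuDeg

open Cfsg.Spor Cfsg.Agent.RuLat Cfsg.Agent.SporadicB Cfsg.Agent.H289.Eight.RuRep Cfsg.Agent.H289.Eight.SqIrr
open Cfsg.Agent.Characters.Core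

/-! ### the two groups -/

theorem card_four : Nat.card fourRu = 583704576000 := by
  obtain ⟨hz, hcard, -⟩ := RuLat.Main.main
  rw [Subgroup.card_eq_card_quotient_mul_card_subgroup (Subgroup.center fourRu), hz]
  change Nat.card Ru * 4 = _
  rw [hcard]

instance finite_four : Finite fourRu := Nat.finite_of_card_ne_zero (by rw [card_four]; norm_num)

/-- the action on the lines -/
noncomputable instance act : MulAction fourRu (Fin 4060) := MulAction.compHom (Fin 4060) RuLat.Main.hyp.hom

theorem smul_def (g : fourRu) (p : Fin 4060) : g • p = RuLat.Main.hyp.im g p := rfl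

/-- the map to the group of the graph -/
noncomputable def q : fourRu →* RuOrder.H := RuLat.Main.hyp.hom.codRestrict RuOrder.H RuLat.Main.hyp.hom_mem

theorem q_surj : Function.Surjective q := by
  rintro ⟨x, hx⟩
  obtain ⟨f, hf⟩ := onto RuLat.Main.hyp Prep.span_bl hx
  exact ⟨f, Subtype.ext hf⟩

theorem fixed_eq (g : fourRu) : Nat.card (MulAction.fixedBy (Fin 4060) g) = Nat.card (MulAction.fixedBy (Fin 4060) (q g)) :=
  rfl

/-! ### the vectors -/

/-- the minimal vectors -/
noncomputable def v (p : Fin 4060) : V := cv (vec p)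

/-- the minimal vectors as elements of the lattice -/
def lv (p : Fin 4060) : ruLattice := ⟨vec p, RuLat.Main.hyp.mem p⟩

theorem conj_mul (e : ℕ) : conj (GaussianInt.toComplex (gI ^ e)) * GaussianInt.toComplex (gI ^ e) = 1 := by
  rw [← GaussianInt.toComplex_star, ← map_mul, star_pow, mul_comm, gI_pow_mul_star, map_one]

theorem act_v (g : fourRu) (p : Fin 4060) : ∃ e : ℕ, cv (g.1 (lv p)) = GaussianInt.toComplex (gI ^ e) • v (g • p) := by
  obtain ⟨e, -, h⟩ := RuLat.Main.hyp.im_spec g p
  refine ⟨e, ?_⟩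
  change cv (g.1 ⟨vec p, RuLat.Main.hyp.mem p⟩) = _
  rw [h, cv_smul]
  rfl

/-- the equivariant map from `End V` to the functions on the lines -/
noncomputable def T : (Representation.linHom rho rho).IntertwiningMap (permRep ℂ fourRu (Fin 4060)) where
  toLinearMap :=
    { toFun := fun A p => ip (v p) (A (v p))
      map_add' := fun A B => by
        funext p
        rw [LinearMap.add_apply, map_add]
        rfl
      map_smul' := fun c A => by
        funext p
        rw [LinearMap.smul_apply, map_smul]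
        rfl }
  isIntertwining' := fun g => by
    refine LinearMap.ext fun A => ?_
    funext p
    change ip (v p) (rho g (A (rho g⁻¹ (v p)))) = ip (v (g⁻¹ • p)) (A (v (g⁻¹ • p)))
    have h1 : rho g⁻¹ (v p) = cv ((g⁻¹).1 (lv p)) := rho_cv g⁻¹ (lv p)
    have h2 := ip_rho g (lv p) (A (rho g⁻¹ (v p)))
    change ip (v p) _ = _ at h2
    obtain ⟨e, he⟩ := act_v g⁻¹ p
    rw [h2, h1, he, map_smul, map_smul, ip_smul, smul_eq_mul, ← mul_assoc, mul_comm (GaussianInt.toComplex (gI ^ e)),
      conj_mul, one_mul]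

theorem T_apply (A : V →ₗ[ℂ] V) (p : Fin 4060) : T A p = ip (v p) (A (v p)) := rfl

/-- the rank one map -/
noncomputable def P0 : V →ₗ[ℂ] V := (ip (v 0)).smulRight (v 0)

theorem P0_apply (x : V) : P0 x = ip (v 0) x • v 0 := rfl

theorem ip_v (a b : Fin 4060) : ip (v a) (v b) = GaussianInt.toComplex (herm (vec b) (vec a)) := ip_cv _ _

theorem T_P0_zero : T P0 0 ≠ 0 := by
  rw [T_apply, P0_apply, map_smul, ip_v, smul_eq_mul]
  have h := RuLat.Main.hyp.herm_self_ne 0
  have h1 : GaussianInt.toComplex (herm (vec (0 : Fin 4060)) (vec (0 : Fin 4060))) ≠ 0 := by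
    rw [Ne, GaussianInt.toComplex_eq_zero]
    exact h
  exact mul_ne_zero h1 h1

theorem T_P0_three : T P0 Cfsg.Agent.H690.Spor.Ru.c3 = 0 := by
  rw [T_apply, P0_apply, map_smul, ip_v, smul_eq_mul]
  have h := (RuLat.Main.hyp.orth Cfsg.Agent.H690.Spor.Ru.c3 0).2 (by
    have h1 : (RuData.row Cfsg.Agent.H690.Spor.Ru.c3).testBit (0 : Fin 4060) = true := by decide +kernel
    exact h1)
  rw [h, map_zero, zero_mul]

/-- the trace -/
noncomputable def tr : (Representation.linHom rho rho).IntertwiningMap (Representation.trivial ℂ fourRu ℂ) where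
  toLinearMap := LinearMap.trace ℂ V
  isIntertwining' := fun g => by
    refine LinearMap.ext fun A => ?_
    change LinearMap.trace ℂ V (rho g ∘ₗ A ∘ₗ rho g⁻¹) = LinearMap.trace ℂ V A
    rw [LinearMap.trace_comp_comm', LinearMap.comp_assoc]
    congr 1
    change A * (rho g⁻¹ * rho g) = A
    rw [← map_mul, inv_mul_cancel, map_one, mul_one]

theorem tr_ne : tr ≠ 0 := by
  intro h
  have h1 : LinearMap.trace ℂ V (LinearMap.id) = 0 :=
    congrArg (fun f : (Representation.linHom rho rho).IntertwiningMap (Representation.trivial ℂ fourRu ℂ) =>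
      f (LinearMap.id)) h
  rw [LinearMap.trace_id] at h1
  have h2 : finrank ℂ V = 28 := by
    rw [Module.finrank_fintype_fun_eq_card]
    rfl
  rw [h2] at h1
  norm_num at h1

/-! ### The permutation character (the arithmetic is copied from helper713's `H713/Two/Ru.lean`) -/

theorem cand : ∀ f < 4060, f * (4059 - f) ∣ (1 + 1755 + 2304) * 1755 * 2304 →
    f ∈ [0, 27, 144, 315, 783, 1755, 2304, 3276, 3744, 3915, 4032, 4059] := by decide +kernel

theorem not_sq {n a : ℕ} (h1 : a * a < n) (h2 : n < (a + 1) * (a + 1)) : ¬ ∃ c : ℤ, (n : ℤ) = c ^ 2 := by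
  rintro ⟨c, hc⟩
  have h3 : n = c.natAbs * c.natAbs := by
    zify
    rw [hc, pow_two, abs_mul_abs_self]
  rw [h3] at h1 h2
  have h4 : a < c.natAbs := by
    by_contra h
    push Not at h
    exact absurd (Nat.mul_le_mul h h) (by omega)
  have h5 : c.natAbs < a + 1 := by
    by_contra h
    push Not at h
    exact absurd (Nat.mul_le_mul h h) (by omega)
  omega

theorem degrees {f g D : ℕ} (h1 : f + g = 1755 + 2304) (h2 : f * g * D = (1 + 1755 + 2304) * 1755 * 2304)
    (h3 : f ≠ g → ∃ c : ℤ, (D : ℤ) = c ^ 2) : (f = 783 ∧ g = 3276) ∨ (f = 3276 ∧ g = 783) := by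
  have hg : g = 4059 - f := by omega
  have hne : f ≠ g := by omega
  have hD := h3 hne
  subst hg
  have h4 := cand f (by omega) ⟨D, h2.symm⟩
  have key : ∀ n a : ℕ, D = n → a * a < n → n < (a + 1) * (a + 1) → False := by
    rintro n a rfl k1 k2
    exact not_sq k1 k2 hD
  simp only [List.mem_cons, List.not_mem_nil, or_false] at h4
  rcases h4 with rfl | rfl | rfl | rfl | rfl | rfl | rfl | rfl | rfl | rfl | rfl | rfl
  · simp at h2
  · exact (key 150800 388 (by omega) (by norm_num) (by norm_num)).elim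
  · exact (key 29120 170 (by omega) (by norm_num) (by norm_num)).elim
  · exact (key 13920 117 (by omega) (by norm_num) (by norm_num)).elim
  · exact Or.inl ⟨rfl, rfl⟩
  · exact (key 4060 63 (by omega) (by norm_num) (by norm_num)).elim
  · exact (key 4060 63 (by omega) (by norm_num) (by norm_num)).elim
  · exact Or.inr ⟨rfl, rfl⟩
  · exact (key 13920 117 (by omega) (by norm_num) (by norm_num)).elim
  · exact (key 29120 170 (by omega) (by norm_num) (by norm_num)).elim
  · exact (key 150800 388 (by omega) (by norm_num) (by norm_num)).elim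
  · simp at h2

theorem exists_chars : ∃ χ₁ χ₂ : IrrCharacter RuOrder.H, (χ₁ : RuOrder.H → ℂ) 1 = (783 : ℕ) ∧
    (χ₂ : RuOrder.H → ℂ) 1 = (3276 : ℕ) ∧
    ∀ x : RuOrder.H, (Nat.card (MulAction.fixedBy (Fin 4060) x) : ℂ) =
      1 + (χ₁ : RuOrder.H → ℂ) x + (χ₂ : RuOrder.H → ℂ) x := by
  classical
  have hfin : Finite RuOrder.H := Cfsg.Agent.H690.Spor.Ru.instFiniteH
  obtain ⟨R, hR⟩ := Cfsg.Agent.H690.Spor.Ru.r3
  obtain ⟨χ₁, χ₂, f, g, D, hf, hg, hπ, h1, h2, h3⟩ := H843.IMC.Frame3.frame_int hR
  rcases degrees h1 h2 (fun h => by obtain ⟨c, e, hc, -⟩ := h3 h; exact ⟨c, hc⟩) with ⟨rfl, rfl⟩ | ⟨rfl, rfl⟩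
  · exact ⟨χ₁, χ₂, hf, hg, hπ⟩
  · exact ⟨χ₂, χ₁, hg, hf, fun x => by rw [hπ x]; ring⟩

theorem finrank_V : finrank ℂ V = 28 := by
  rw [Module.finrank_fintype_fun_eq_card]
  rfl

/-- **the character of `End V`** -/
theorem end_char : ∃ χ : fourRu → ℂ, IsIrrCharacter fourRu χ ∧ χ 1 = (783 : ℕ) ∧
    (Representation.linHom rho rho).character = 1 + χ := by
  classical
  have := Fintype.ofFinite fourRu
  obtain ⟨χ₁, χ₂, d₁, d₂, hπ⟩ := exists_chars
  refine ⟨(χ₁ : RuOrder.H → ℂ) ∘ q, isIrr_comp q q_surj χ₁.2, ?_, ?_⟩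
  · change (χ₁ : RuOrder.H → ℂ) (q 1) = _
    rw [map_one, d₁]
  · refine eq_add (P := Fin 4060) _ T (w := P0) (x := 0) (y := Cfsg.Agent.H690.Spor.Ru.c3) ?_ tr tr_ne
      (isIrr_comp q q_surj χ₁.2) (isIrr_comp q q_surj χ₂.2) (n := 783) (b := 3276) ?_ (by norm_num) ?_ ?_
      (by norm_num) ?_
    · rw [T_P0_three]
      exact T_P0_zero
    · rw [Module.finrank_linearMap, finrank_V]
    · change (χ₁ : RuOrder.H → ℂ) (q 1) = _
      rw [map_one, d₁]
    · change (χ₂ : RuOrder.H → ℂ) (q 1) = _
      rw [map_one, d₂]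
    · intro g
      rw [fixed_eq]
      exact hπ (q g)

/-- the character of `V` -/
noncomputable def chi : fourRu → ℂ := rho.character

theorem norm_chi [Fintype fourRu] :
    classInner (fun g => chi g * conj (chi g)) (fun g => chi g * conj (chi g)) = 2 := by
  obtain ⟨χ, h, h1, he⟩ := end_char
  have e : (fun g => chi g * conj (chi g)) = 1 + χ := by
    rw [← he]
    funext g
    rw [Representation.char_linHom, Cfsg.Agent.PermutationGroups.PermChar.char_inv_eq_conj, mul_comm]
    rfl
  have hne : (1 : fourRu → ℂ) ≠ χ := by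
    intro h2
    rw [← h2, Pi.one_apply] at h1
    norm_num at h1
  rw [e, classInner_add_left, classInner_add_right, classInner_add_right, classInner_irr_self isIrr_one,
    classInner_irr_self h, classInner_irr_ne isIrr_one h hne, classInner_irr_ne h isIrr_one hne.symm]
  norm_num

theorem chi_one : chi 1 = (28 : ℕ) := by
  rw [chi, Representation.char_one, finrank_V]

theorem irr : IsIrrCharacter fourRu (symF chi) ∧ IsIrrCharacter fourRu (altF chi) := by
  have := Fintype.ofFinite fourRu
  exact irr_sq (isCharacter_of_rep rho) norm_chi (n := 28) (by norm_num) chi_one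

/-! ### The scalar `i` -/

/-- the scalar `i` -/
def iz : fourRu := ⟨iPerm, iPerm_mem⟩

theorem rho_iz : rho iz = Complex.I • (1 : Module.End ℂ V) := by
  refine ext_single fun x => ?_
  rw [rho_cv]
  change cv (gI • (x : RuVec)) = _
  rw [cv_smul]
  congr 1
  rw [GaussianInt.toComplex_def₂]
  apply Complex.ext <;> simp [gI]

theorem chi_iz (g : fourRu) : chi (iz * g) = Complex.I * chi g := by
  change LinearMap.trace ℂ V (rho (iz * g)) = Complex.I * LinearMap.trace ℂ V (rho g)
  rw [map_mul, rho_iz, smul_mul_assoc, one_mul, map_smul, smul_eq_mul]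

theorem iz_comm (g : fourRu) : g * iz = iz * g := Subtype.ext (iPerm_comm g.2)

theorem chi_iz_sq (g : fourRu) : chi (iz * g * (iz * g)) = - chi (g * g) := by
  have e : iz * g * (iz * g) = iz * (iz * (g * g)) := by
    rw [mul_assoc iz g, ← mul_assoc g iz, iz_comm]
    simp only [mul_assoc]
  rw [e, chi_iz, chi_iz, ← mul_assoc, Complex.I_mul_I, neg_one_mul]

theorem symF_iz (g : fourRu) : symF chi (iz * g) = - symF chi g := by
  unfold symF
  rw [chi_iz, chi_iz_sq, mul_pow, Complex.I_sq]
  ring

theorem altF_iz (g : fourRu) : altF chi (iz * g) = - altF chi g := by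
  unfold altF
  rw [chi_iz, chi_iz_sq, mul_pow, Complex.I_sq]
  ring

theorem center_eq {z : fourRu} (hz : z ∈ Subgroup.center fourRu) : ∃ e : ℕ, z = iz ^ e := by
  rw [RuLat.Main.hyp.ker_eq Prep.span_bl (onto RuLat.Main.hyp Prep.span_bl)] at hz
  obtain ⟨e, -, h⟩ := RuLat.Main.hyp.eq_iPow Prep.span_bl hz
  exact ⟨e, h⟩

theorem perfect_ru : commutator Ru = ⊤ := by
  obtain ⟨-, hcard, hs⟩ := RuLat.Main.main
  exact Cfsg.Agent.H51.Tools.perfect_of_simple hs (by rw [hcard]; norm_num)

/-- the fourfold cover is not perfect -/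
theorem not_perfect : commutator fourRu ≠ ⊤ := by
  intro h
  have h1 := H95.StemCover.card_ker_dvd S2051.result h (QuotientGroup.mk' (Subgroup.center fourRu))
    (QuotientGroup.mk'_surjective _) (by rw [QuotientGroup.ker_mk'])
  rw [QuotientGroup.ker_mk', RuLat.Main.main.1, Nat.card_congr (Multiplicative.toAdd (α := ZMod 2)), Nat.card_zmod] at h1
  norm_num at h1

theorem iz_notMem : iz ∉ commutator fourRu := by
  intro h
  apply not_perfect
  have h1 : Subgroup.center fourRu ≤ commutator fourRu := by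
    intro z hz
    obtain ⟨e, rfl⟩ := center_eq hz
    exact pow_mem h e
  have h2 : (commutator fourRu).map (QuotientGroup.mk' (Subgroup.center fourRu)) = ⊤ := by
    rw [commutator_def, Subgroup.map_commutator, ← MonoidHom.range_eq_map,
      MonoidHom.range_eq_top.2 (QuotientGroup.mk'_surjective _), ← commutator_def]
    exact perfect_ru
  have h3 := congrArg (Subgroup.comap (QuotientGroup.mk' (Subgroup.center fourRu))) h2
  rw [Subgroup.comap_map_eq, QuotientGroup.ker_mk', Subgroup.comap_top, sup_eq_left.2 h1] at h3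
  exact h3

/-- **a linear character with value `-1` at the scalar `i`** -/
theorem exists_lam : ∃ l : fourRu →* ℂˣ, (l iz : ℂ) = -1 := by
  have h1 : (Abelianization.of iz : Abelianization fourRu) ≠ 1 := by
    intro h
    apply iz_notMem
    rw [← Abelianization.ker_of]
    exact h
  have : Finite (Abelianization fourRu) := Finite.of_surjective _ QuotientGroup.mk_surjective
  obtain ⟨φ, hφ⟩ := CommGroup.exists_apply_ne_one_of_hasEnoughRootsOfUnity (Abelianization fourRu) ℂ h1
  refine ⟨φ.comp Abelianization.of, ?_⟩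
  have h2 : iz * iz ∈ commutator fourRu := by
    have h3 : iz * iz = ⁅H51.RuCover.j, H51.RuCover.k⁆ := by
      apply Subtype.ext
      apply Equiv.ext
      intro x
      rw [H51.RuCover.comm_apply]
      apply Subtype.ext
      change gI • (gI • (x : RuVec)) = -(x : RuVec)
      rw [smul_smul, gI_mul_self, neg_one_smul]
    rw [h3]
    exact Subgroup.commutator_mem_commutator (Subgroup.mem_top _) (Subgroup.mem_top _)
  have h3 : (Abelianization.of iz : Abelianization fourRu) * Abelianization.of iz = 1 := by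
    rw [← map_mul]
    rw [← Abelianization.ker_of] at h2
    exact h2
  have h4 : φ (Abelianization.of iz) * φ (Abelianization.of iz) = 1 := by rw [← map_mul, h3, map_one]
  have h5 : ((φ (Abelianization.of iz) : ℂˣ) : ℂ) * (φ (Abelianization.of iz) : ℂˣ) = 1 := by
    rw [← Units.val_mul, h4, Units.val_one]
  rcases mul_self_eq_one_iff.1 h5 with h6 | h6
  · exact absurd (Units.ext h6) hφ
  · exact h6

theorem descend {σ : fourRu → ℂ} (hσ : IsIrrCharacter fourRu σ) (hi : ∀ g, σ (iz * g) = - σ g) {d : ℕ} (hd : σ 1 = d) :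
    d ∈ charDegrees Ru := by
  classical
  obtain ⟨l, hl⟩ := exists_lam
  have hψ := H689.isIrr_mul_linear hσ l
  have key : ∀ (e : ℕ), (l (iz ^ e) : ℂ) * σ (iz ^ e) = σ 1 := by
    intro e
    induction e with
    | zero => rw [pow_zero, map_one, Units.val_one, one_mul]
    | succ e ih => rw [pow_succ', map_mul, Units.val_mul, hl, hi, ← ih]; ring
  have := Fintype.ofFinite (Subgroup.center fourRu)
  obtain ⟨χ', h'⟩ := Blocks.Deflate.exists_deflation (Subgroup.center fourRu) _ hψ (by
    have h1 : ∀ n : Subgroup.center fourRu, (l (n : fourRu) : ℂ) * σ (n : fourRu) = σ 1 := by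
      rintro ⟨z, hz⟩
      obtain ⟨e, rfl⟩ := center_eq hz
      exact key e
    rw [Finset.sum_congr rfl fun n _ => h1 n, Finset.sum_const, nsmul_eq_mul]
    exact mul_ne_zero (Nat.cast_ne_zero.2 (Finset.card_ne_zero.2 ⟨1, Finset.mem_univ _⟩))
      (isIrr_apply_one_ne_zero hσ))
  refine ⟨χ', ?_⟩
  apply Blocks.Basic.charDegree_of_eq
  have h2 := congrFun h' 1
  rw [map_one, Units.val_one, one_mul, hd] at h2
  exact h2.symm

/-- **406** -/
theorem deg_406 : 406 ∈ charDegrees Ru := by
  refine descend irr.1 symF_iz ?_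
  unfold symF
  rw [mul_one, chi_one]
  norm_num

/-- **378** -/
theorem deg_378 : 378 ∈ charDegrees Ru := by
  refine descend irr.2 altF_iz ?_
  unfold altF
  rw [mul_one, chi_one]
  norm_num

end Cfsg.Agent.H289.Eight.RuDeg
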