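import Mathlib
import Cfsg.Prelude.Def_Spor_Suz
import Cfsg.Agent.H678.DG.Blk
import Cfsg.Agent.H289.Eight.SuzData

/-!
# The permutation representation of the presented Suzuki group on 22880 points (helper289, S4899)

The subgroup `⟨a, b, c, d, f, g⟩ = 3·U₄(3):2` has index 22880. Arguments of the table lookup are forced, so that the kernel
caches the values.
-/

set_option autoImplicit false
set_option maxRecDepth 100000

namespace Cfsg.Agent.H289.Eight.SuzRep

open Cfsg.Spor Cfsg.Spor.Suz Cfsg.Agent.SporadicA.PermTab Cfsg.Agent.H678.DG.Blk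

/-- forces the argument -/
def frc (n : ℕ) (f : ℕ → ℕ) : ℕ := Nat.rec (f 0) (fun m _ => f (Nat.succ m)) n

theorem frc_eq (n : ℕ) (f : ℕ → ℕ) : frc n f = f n := by cases n <;> rfl

/-- entry `c` of a list -/
def nth (l : List ℕ) (c : ℕ) : ℕ :=
  List.rec (motive := fun _ => ℕ → ℕ) (fun _ => 0) (fun x _ ih c => Nat.rec x (fun c' _ => ih c') c) l c

/-- entry `i` of a table: 256 entries of 15 bits in each number -/
def look (l : List ℕ) (i : ℕ) : ℕ :=
  frc (Nat.div i 256) fun c => Nat.land (Nat.shiftRight (nth l c) (Nat.mul 15 (Nat.mod i 256))) 32767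

/-- image table of a generator -/
def tab : Gen → List ℕ
  | .a => SuzData.qa
  | .b => SuzData.qb
  | .c => SuzData.qc
  | .d => SuzData.qd
  | .e => SuzData.qe
  | .f => SuzData.qf
  | .g => SuzData.qg

/-- the generators -/
def gens : List Gen := [.a, .b, .c, .d, .e, .f, .g]

theorem mem_gens (x : Gen) : x ∈ gens := by cases x <;> decide

/-- powers of a word -/
def powWord (w : List Gen) : ℕ → List Gen
  | 0 => []
  | n + 1 => w ++ powWord w n

theorem powWord_prod {M : Type*} [Monoid M] (f : Gen → M) (w : List Gen) (n : ℕ) :
    ((powWord w n).map f).prod = (w.map f).prod ^ n := by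
  induction n with
  | zero => simp [powWord]
  | succ n ih => rw [powWord, List.map_append, List.prod_append, ih, pow_succ']

/-- action of a word on a point, the last letter acts first -/
def act (w : List Gen) (i : ℕ) : ℕ := List.rec i (fun x _ ih => frc ih fun j => look (tab x) j) w

theorem act_cons (x : Gen) (w : List Gen) (i : ℕ) : act (x :: w) i = look (tab x) (act w i) := frc_eq _ _

/-- the entries of a table are smaller than 22880 and it is an involution -/
def inv (x : Gen) : Bool :=
  allB (fun i => band (Nat.blt (look (tab x) i) 22880) (Nat.beq (act [x, x] i) i)) 22880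

theorem inv_a : inv .a = true := by decide +kernel
theorem inv_b : inv .b = true := by decide +kernel
theorem inv_c : inv .c = true := by decide +kernel
theorem inv_d : inv .d = true := by decide +kernel
theorem inv_e : inv .e = true := by decide +kernel
theorem inv_f : inv .f = true := by decide +kernel
theorem inv_g : inv .g = true := by decide +kernel

theorem inv_all (x : Gen) : inv x = true := by
  cases x
  exacts [inv_a, inv_b, inv_c, inv_d, inv_e, inv_f, inv_g]

theorem look_lt (x : Gen) (i : ℕ) (hi : i < 22880) : look (tab x) i < 22880 := by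
  have h := (allB_iff _ _).1 (inv_all x) i hi
  rw [band_eq_true] at h
  exact Nat.le_of_ble_eq_true h.1

theorem look_look (x : Gen) (i : ℕ) (hi : i < 22880) : look (tab x) (look (tab x) i) = i := by
  have h := (allB_iff _ _).1 (inv_all x) i hi
  rw [band_eq_true] at h
  have h2 := Nat.eq_of_beq_eq_true h.2
  rwa [act_cons, act_cons] at h2

/-- the permutation of the 22880 points attached to a generator -/
def pm (x : Gen) : Equiv.Perm (Fin 22880) where
  toFun i := ⟨look (tab x) i, look_lt x i i.2⟩
  invFun i := ⟨look (tab x) i, look_lt x i i.2⟩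
  left_inv i := Fin.ext (look_look x i i.2)
  right_inv i := Fin.ext (look_look x i i.2)

theorem pm_apply (x : Gen) (i : Fin 22880) : ((pm x i : Fin 22880) : ℕ) = look (tab x) i := rfl

theorem prod_apply (w : List Gen) (i : Fin 22880) : (((w.map pm).prod i : Fin 22880) : ℕ) = act w i := by
  induction w with
  | nil => rfl
  | cons x w ih => rw [List.map_cons, List.prod_cons, Equiv.Perm.mul_apply, pm_apply, ih, act_cons]

theorem prod_eq_one {w : List Gen} (h : ∀ i < 22880, act w i = i) : (w.map pm).prod = 1 := by
  apply Equiv.ext
  intro i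
  apply Fin.ext
  rw [prod_apply, h i i.2]
  rfl

/-- check that a word acts trivially -/
def good (w : List Gen) : Bool := allB (fun i => Nat.beq (act w i) i) 22880

theorem of_good {w : List Gen} (h : good w = true) : (w.map pm).prod = 1 :=
  prod_eq_one fun i hi => Nat.eq_of_beq_eq_true ((allB_iff _ _).1 h i hi)

/-- the number of a generator -/
def idx : Gen → ℕ
  | .a => 0
  | .b => 1
  | .c => 2
  | .d => 3
  | .e => 4
  | .f => 5
  | .g => 6

theorem idx_inj {x y : Gen} (h : idx x = idx y) : x = y := by cases x <;> cases y <;> first | rfl | cases h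

theorem g_ab : good (powWord [.a, .b] 5) = true := by decide +kernel
theorem g_ac : good (powWord [.a, .c] 2) = true := by decide +kernel
theorem g_ad : good (powWord [.a, .d] 2) = true := by decide +kernel
theorem g_ae : good (powWord [.a, .e] 2) = true := by decide +kernel
theorem g_af : good (powWord [.a, .f] 2) = true := by decide +kernel
theorem g_ag : good (powWord [.a, .g] 2) = true := by decide +kernel
theorem g_bc : good (powWord [.b, .c] 3) = true := by decide +kernel
theorem g_bd : good (powWord [.b, .d] 2) = true := by decide +kernel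
theorem g_be : good (powWord [.b, .e] 2) = true := by decide +kernel
theorem g_bf : good (powWord [.b, .f] 3) = true := by decide +kernel
theorem g_bg : good (powWord [.b, .g] 3) = true := by decide +kernel
theorem g_cd : good (powWord [.c, .d] 8) = true := by decide +kernel
theorem g_ce : good (powWord [.c, .e] 2) = true := by decide +kernel
theorem g_cf : good (powWord [.c, .f] 2) = true := by decide +kernel
theorem g_cg : good (powWord [.c, .g] 2) = true := by decide +kernel
theorem g_de : good (powWord [.d, .e] 3) = true := by decide +kernel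
theorem g_df : good (powWord [.d, .f] 2) = true := by decide +kernel
theorem g_dg : good (powWord [.d, .g] 2) = true := by decide +kernel
theorem g_ef : good (powWord [.e, .f] 2) = true := by decide +kernel
theorem g_eg : good (powWord [.e, .g] 2) = true := by decide +kernel
theorem g_fg : good (powWord [.f, .g] 4) = true := by decide +kernel

theorem cox_good (x y : Gen) (h : idx x < idx y) : good (powWord [x, y] (coxLabel edges x y)) = true := by
  cases x <;> cases y <;> first | exact absurd h (by decide) | skip
  exacts [g_ab, g_ac, g_ad, g_ae, g_af, g_ag, g_bc, g_bd, g_be, g_bf, g_bg, g_cd, g_ce, g_cf, g_cg, g_de, g_df, g_dg, g_ef, g_eg, g_fg]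

theorem pm_mul_self (x : Gen) : pm x * pm x = 1 := by
  apply Equiv.ext
  intro i
  apply Fin.ext
  exact look_look x i i.2

theorem pm_inv (x : Gen) : (pm x)⁻¹ = pm x := by
  rw [inv_eq_iff_mul_eq_one, pm_mul_self]

theorem cox_rel_lt {x y : Gen} (hxy : idx x < idx y) : (pm x * pm y) ^ coxLabel edges x y = 1 := by
  have h3 := of_good (cox_good x y hxy)
  rw [powWord_prod] at h3
  simpa using h3

theorem coxLabel_comm (x y : Gen) : coxLabel edges x y = coxLabel edges y x := by
  cases x <;> cases y <;> rfl

theorem cox_rel (x y : Gen) : (pm x * pm y) ^ coxLabel edges x y = 1 := by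
  rcases lt_trichotomy (idx x) (idx y) with h | h | h
  · exact cox_rel_lt h
  · have h1 := idx_inj h
    subst h1
    rw [pm_mul_self, one_pow]
  · have h1 := cox_rel_lt h
    rw [coxLabel_comm]
    have h2 : pm x * pm y = (pm y * pm x)⁻¹ := by rw [mul_inv_rev, pm_inv, pm_inv]
    rw [h2, inv_pow, h1, inv_one]

theorem e1 : good (.a :: powWord [.c, .d] 4) = true := by decide +kernel
theorem e2 : good (.a :: powWord [.f, .g] 2) = true := by decide +kernel
theorem e3 : good (powWord [.a, .b, .c, .f] 5) = true := by decide +kernel
theorem e4 : good (powWord [.b, .f, .g] 5) = true := by decide +kernel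

/-- forces the argument of a boolean function -/
def frB (n : ℕ) (f : ℕ → Bool) : Bool := Nat.rec (f 0) (fun m _ => f (Nat.succ m)) n

theorem frB_eq (n : ℕ) (f : ℕ → Bool) : frB n f = f n := by cases n <;> rfl

/-- check that a word fixes the points `a, …, a + n - 1` -/
def goodR (w : List Gen) (a n : ℕ) : Bool :=
  allB (fun k => frB (Nat.add a k) fun i => Nat.beq (act w i) i) n

theorem of_goodR {w : List Gen} {a n : ℕ} (h : goodR w a n = true) {i : ℕ} (h1 : a ≤ i) (h2 : i < a + n) :
    act w i = i := by
  have h3 := (allB_iff _ _).1 h (i - a) (by omega)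
  rw [frB_eq] at h3
  have h4 : Nat.add a (i - a) = i := by
    show a + (i - a) = i
    omega
  rw [h4] at h3
  exact Nat.eq_of_beq_eq_true h3

theorem good_of_ranges {w : List Gen} (h0 : goodR w 0 5720 = true) (h1 : goodR w 5720 5720 = true)
    (h2 : goodR w 11440 5720 = true) (h3 : goodR w 17160 5720 = true) : good w = true := by
  refine (allB_iff _ _).2 fun i hi => ?_
  rw [Nat.beq_eq]
  rcases Nat.lt_or_ge i 5720 with h | h
  · exact of_goodR h0 (Nat.zero_le _) (by omega)
  rcases Nat.lt_or_ge i 11440 with h' | h'
  · exact of_goodR h1 h (by omega)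
  rcases Nat.lt_or_ge i 17160 with h'' | h''
  · exact of_goodR h2 h' (by omega)
  · exact of_goodR h3 h'' (by omega)

/-- the word of the last relator -/
def w5 : List Gen := powWord (powWord [.b, .c, .d, .c, .d] 5 ++ [.e]) 3

theorem e5_0 : goodR w5 0 5720 = true := by decide +kernel
theorem e5_1 : goodR w5 5720 5720 = true := by decide +kernel
theorem e5_2 : goodR w5 11440 5720 = true := by decide +kernel
theorem e5_3 : goodR w5 17160 5720 = true := by decide +kernel

theorem e5 : good (powWord (powWord [.b, .c, .d, .c, .d] 5 ++ [.e]) 3) = true :=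
  good_of_ranges e5_0 e5_1 e5_2 e5_3

theorem rel1 : pm .a * (pm .c * pm .d) ^ 4 = 1 := by
  have h := of_good e1
  rw [List.map_cons, List.prod_cons, powWord_prod] at h
  simpa using h

theorem rel2 : pm .a * (pm .f * pm .g) ^ 2 = 1 := by
  have h := of_good e2
  rw [List.map_cons, List.prod_cons, powWord_prod] at h
  simpa using h

theorem rel3 : (pm .a * pm .b * pm .c * pm .f) ^ 5 = 1 := by
  have h := of_good e3
  rw [powWord_prod] at h
  simpa [mul_assoc] using h

theorem rel4 : (pm .b * pm .f * pm .g) ^ 5 = 1 := by
  have h := of_good e4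
  rw [powWord_prod] at h
  simpa [mul_assoc] using h

theorem rel5 : ((pm .b * pm .c * pm .d * pm .c * pm .d) ^ 5 * pm .e) ^ 3 = 1 := by
  have h := of_good e5
  rw [powWord_prod, List.map_append, List.prod_append, powWord_prod] at h
  simpa [mul_assoc] using h

/-- All relators of the presented Suzuki group act trivially. -/
theorem lift_eq_one : ∀ r ∈ coxRelators edges ∪ {r | r ∈ extra}, FreeGroup.lift pm r = 1 := by
  rintro r (⟨x, -, y, -, rfl⟩ | hr)
  · rw [map_pow, map_mul, FreeGroup.lift_apply_of, FreeGroup.lift_apply_of]
    exact cox_rel x y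
  · have hr' : r ∈ extra := hr
    have ha : ∀ q : Equiv.Perm (Fin 22880), pm .a * q = 1 → pm .a * q⁻¹ = 1 := by
      intro q hq
      have : q = pm .a := by rw [← pm_inv Gen.a]; exact (inv_eq_of_mul_eq_one_right hq).symm
      rw [this, mul_inv_cancel]
    simp only [extra, List.mem_cons, List.not_mem_nil, or_false] at hr'
    rcases hr' with rfl | rfl | rfl | rfl | rfl
    · simp only [map_mul, map_inv, map_pow, FreeGroup.lift_apply_of]
      exact ha _ rel1
    · simp only [map_mul, map_inv, map_pow, FreeGroup.lift_apply_of]
      exact ha _ rel2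
    · simp only [map_mul, map_pow, FreeGroup.lift_apply_of]
      exact rel3
    · simp only [map_mul, map_pow, FreeGroup.lift_apply_of]
      exact rel4
    · simp only [map_mul, map_pow, FreeGroup.lift_apply_of]
      exact rel5

/-- The permutation representation of the presented Suzuki group on 22880 points. -/
noncomputable def phi : Cfsg.Spor.Suz →* Equiv.Perm (Fin 22880) := PresentedGroup.toGroup lift_eq_one

theorem phi_of (x : Gen) : phi (PresentedGroup.of x) = pm x := PresentedGroup.toGroup.of lift_eq_one

end Cfsg.Agent.H289.Eight.SuzRep
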