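import Cfsg.Agent.H678.DG.Pts
import Cfsg.Agent.H289.Eight.SuzRep
import Cfsg.Agent.SporadicRecognition.SuzOrder

/-!
# The Suzuki group has irreducible characters of degrees 364, 780, 5940, 15795 (helper289, S4899)

The action on 22880 points; the relation is the suborbit of length 280.
-/

set_option autoImplicit false
set_option maxRecDepth 100000

namespace Cfsg.Agent.H289.Eight.SuzDeg

open Cfsg Equiv Cfsg.Spor.Suz Cfsg.Agent.H678.DG.Blk Cfsg.Agent.H678.DG Cfsg.Agent.H289.Eight.SuzRep
  Cfsg.Agent.SporadicA.PermTab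

theorem card_suz : Nat.card Cfsg.Spor.Suz = 448345497600 := Cfsg.Agent.SporadicRecognition.SuzOrder.card_Suz

instance finite_suz : Finite Cfsg.Spor.Suz := Nat.finite_of_card_ne_zero (by rw [card_suz]; norm_num)

/-- the action of a generator -/
def A (x : Gen) (i : ℕ) : ℕ := look (tab x) i

theorem rep_of (x : Gen) (i : Fin 22880) : ((phi (PresentedGroup.of x) i : Fin 22880) : ℕ) = A x i := by
  rw [phi_of]
  rfl

/-- the roots -/
def bs : List ℕ := [1, 281, 767, 9272]

/-- the parents -/
def pr (i : ℕ) : ℕ := look SuzData.pr i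

/-- the words of the stabiliser -/
def KW : List (List Gen) := [[.a], [.b], [.c], [.d], [.f], [.g]]

/-- sizes -/
def kk (j : ℕ) : ℕ := [1, 280, 486, 8505, 13608].getD j 0

/-- the words mapping 0 to the roots -/
def gam (j : ℕ) : List Gen := [[], [.e, .d, .c, .b, .g, .f, .d, .c, .d, .e, .d, .c, .d, .b, .c, .d, .e], [.e], [.e, .d, .c, .d, .e], [.e, .d, .c, .d, .b, .c, .d, .e]].getD j []

/-- the collapsed matrix -/
def B (i j : ℕ) : ℕ := ([[0, 280, 0, 0, 0], [1, 36, 0, 243, 0], [0, 0, 0, 0, 280], [0, 8, 0, 128, 144], [0, 0, 10, 90, 180]].getD i []).getD j 0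

theorem c1a : Pts.chkW A 22880 bs [.a] = true := by decide +kernel
theorem c1b : Pts.chkW A 22880 bs [.b] = true := by decide +kernel
theorem c1c : Pts.chkW A 22880 bs [.c] = true := by decide +kernel
theorem c1d : Pts.chkW A 22880 bs [.d] = true := by decide +kernel
theorem c1f : Pts.chkW A 22880 bs [.f] = true := by decide +kernel
theorem c1g : Pts.chkW A 22880 bs [.g] = true := by decide +kernel

theorem c1 : allL (Pts.chkW A 22880 bs) KW = true := by
  rw [allL_iff]
  intro w hw
  simp only [KW, List.mem_cons, List.not_mem_nil, or_false] at hw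
  rcases hw with rfl | rfl | rfl | rfl | rfl | rfl
  · exact c1a
  · exact c1b
  · exact c1c
  · exact c1d
  · exact c1f
  · exact c1g

/-- the check of the forest at a point -/
def P2 (x : ℕ) : Bool := bor (Nat.beq (rt bs (lab bs x)) x) (forceB (pr x) fun y => band (Nat.blt y x)
  (band (Nat.beq (lab bs y) (lab bs x)) (anyB (fun w => Nat.beq (Pts.av A w y) x) KW)))

theorem allB_add (p : ℕ → Bool) (a b : ℕ) (h1 : allB p a = true) (h2 : allB (fun k => p (Nat.add a k)) b = true) :
    allB p (a + b) = true := by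
  rw [allB_iff] at *
  intro i hi
  by_cases h : i < a
  · exact h1 i h
  · have h3 := h2 (i - a) (by omega)
    have h4 : Nat.add a (i - a) = i := by
      show a + (i - a) = i
      omega
    rwa [h4] at h3

theorem c2a : allB P2 5720 = true := by decide +kernel
theorem c2b : allB (fun k => P2 (Nat.add 5720 k)) 5720 = true := by decide +kernel
theorem c2c : allB (fun k => P2 (Nat.add 11440 k)) 5720 = true := by decide +kernel
theorem c2d : allB (fun k => P2 (Nat.add 17160 k)) 5720 = true := by decide +kernel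

theorem c2 : Pts.chkF A 22880 bs KW pr = true :=
  allB_add P2 17160 5720 (allB_add P2 11440 5720 (allB_add P2 5720 5720 c2a c2b) c2c) c2d

theorem c3 : chkK 22880 5 bs kk = true := by decide +kernel

/-- the check of a row of the collapsed matrix -/
def P4 (i : ℕ) : Bool := band (Nat.beq (Pts.av A (gam i) 0) (rt bs i))
  (Pts.pk (fun k => Nat.beq (lab bs k) 1) (fun k => lab bs (Pts.av A (gam i) k)) (Pts.row (B i) 5) 22880 0)

theorem c40 : P4 0 = true := by decide +kernel
theorem c41 : P4 1 = true := by decide +kernel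
theorem c42 : P4 2 = true := by decide +kernel
theorem c43 : P4 3 = true := by decide +kernel
theorem c44 : P4 4 = true := by decide +kernel

theorem c4 : Pts.chkB A 22880 5 1 bs gam B = true := by
  have h : allB P4 5 = true := by
    rw [allB_iff]
    intro i hi
    interval_cases i
    · exact c40
    · exact c41
    · exact c42
    · exact c43
    · exact c44
  exact h

theorem hdiv : ∀ J : Finset (Fin 5), 1 ∈ J → (∑ j ∈ J, kk j) ∣ 19595520 → J = {1} := by decide +kernel

/-- The degree for an eigenvalue. -/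
theorem deg (a : Fin 5 → ℚ) (t : ℚ) (L : Fin 5 → Fin 5 → ℚ) (d : ℕ)
    (ha : a 0 = 1) (hBa : ∀ i : Fin 5, ∑ j : Fin 5, (B i j : ℚ) * a j = t * a i)
    (hL : ∀ i j : Fin 5, ∑ l : Fin 5, L i l * ((B l j : ℚ) - if l = j then t else 0) =
      (if i = j then 1 else 0) - if j = 0 then a i else 0)
    (hd : (d : ℚ) * ∑ j : Fin 5, (kk j : ℚ) * (a j * a j) = (22880 : ℕ)) :
    ∃ χ : IrrCharacter Cfsg.Spor.Suz, charDegree (χ : Cfsg.Spor.Suz → ℂ) = d :=
  Pts.deg_of_pts phi (fun x => PresentedGroup.of x) A rep_of (KW := KW) (bs := bs) (pr := pr) (kk := kk) (γ := gam)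
    (c₁ := 1) (B := B) (st := 19595520) (by rw [card_suz]) (by norm_num) (by norm_num) (by decide +kernel) (by norm_num)
    (by norm_num) (by decide +kernel) c1 c2 c3 c4 hdiv a t L d ha hBa hL hd

theorem deg_364 : ∃ χ : IrrCharacter Cfsg.Spor.Suz, charDegree (χ : Cfsg.Spor.Suz → ℂ) = 364 :=
  deg ![1, 2/7, -1/9, 1/21, -2/63] (80) ![![0, 0, 0, 0, 0],
    ![1/280, 0, 0, 0, 0],
    ![-169/116640, -7/1458, -1/80, 7/288, 0],
    ![11/17010, 1/243, 0, 0, 0],
    ![-169/408240, -1/729, 0, 1/144, 0]] 364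
    (by decide +kernel) (by decide +kernel) (by decide +kernel) (by decide +kernel)

theorem deg_780 : ∃ χ : IrrCharacter Cfsg.Spor.Suz, charDegree (χ : Cfsg.Spor.Suz → ℂ) = 780 :=
  deg ![1, -1/10, 5/27, 1/45, -1/54] (-28) ![![0, 0, 0, 0, 0],
    ![1/280, 0, 0, 0, 0],
    ![-335/40824, 65/1458, 1/28, -5/72, 0],
    ![-8/8505, 1/243, 0, 0, 0],
    ![67/81648, -13/2916, 0, 1/144, 0]] 780
    (by decide +kernel) (by decide +kernel) (by decide +kernel) (by decide +kernel)

theorem deg_5940 : ∃ χ : IrrCharacter Cfsg.Spor.Suz, charDegree (χ : Cfsg.Spor.Suz → ℂ) = 5940 :=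
  deg ![1, 1/14, 1/27, -5/567, 1/378] (20) ![![0, 0, 0, 0, 0],
    ![1/280, 0, 0, 0, 0],
    ![-1/3240, -7/162, -1/20, 7/72, 0],
    ![-2/8505, 1/243, 0, 0, 0],
    ![-1/45360, -1/324, 0, 1/144, 0]] 5940
    (by decide +kernel) (by decide +kernel) (by decide +kernel) (by decide +kernel)

theorem deg_15795 : ∃ χ : IrrCharacter Cfsg.Spor.Suz, charDegree (χ : Cfsg.Spor.Suz → ℂ) = 15795 :=
  deg ![1, -1/35, -5/243, 1/945, 1/1701] (-8) ![![0, 0, 0, 0, 0],
    ![1/280, 0, 0, 0, 0],
    ![-505/34992, 595/4374, 1/8, -35/144, 0],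
    ![-11/17010, 1/243, 0, 0, 0],
    ![101/244944, -17/4374, 0, 1/144, 0]] 15795
    (by decide +kernel) (by decide +kernel) (by decide +kernel) (by decide +kernel)

end Cfsg.Agent.H289.Eight.SuzDeg
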