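import Cfsg.Agent.H289.Eight.Cyc
import Cfsg.Agent.H678.DG.HeDegB
import Cfsg.Agent.H492.IMHe

/-!
# The Held group has at least eight character degrees (helper289, S4899)

The degrees `1, 680, 1275, 1920, 4352`, the exceptional degree and two more nonexceptional degrees of the principal
17-block.
-/

set_option autoImplicit false
set_option maxRecDepth 100000

namespace Cfsg.Agent.H289.Eight.He

open Cfsg Equiv Cfsg.Spor.He Cfsg.Agent.H678.DG.Blk Cfsg.Agent.H678.DG.Pts Cfsg.Agent.H678.DG.HeRep
  Cfsg.Agent.H678.DG Cfsg.Agent.H664.Eight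

instance finite_he : Finite Cfsg.Spor.He := Nat.finite_of_card_ne_zero (by rw [HeDegA.card_he]; norm_num)

theorem deg_4352 : ∃ χ : IrrCharacter Cfsg.Spor.He, charDegree (χ : Cfsg.Spor.He → ℂ) = 4352 :=
  deg_of_pts phi (fun x => PresentedGroup.of x) HeDegB.A HeDegB.rep_of (KW := HeDegB.KW) (bs := HeDegB.bs)
    (pr := HeDegB.pr) (kk := HeDegB.kk) (γ := HeDegB.gam) (c₁ := 3) (B := HeDegB.B) (st := 483840)
    (by rw [HeDegA.card_he]) (by norm_num) (by norm_num) (by decide +kernel) (by norm_num)
    (by norm_num) (by decide +kernel) HeDegB.c1 HeDegB.c2 HeDegB.c3 HeDegB.c4 HeDegB.hdiv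
    ![1, -1/48, -1/64, 1/128, 0, 0, 0, -1/48] 35 ![![0, 0, 0, 0, 0, 0, 0, 0],
    ![-407677/246430800, -1/147, 58208/1711325, -16312/440055, -8/1026795, 6032/1026795, 6032/1026795, 0],
    ![-11951/460004160, 0, -56647/2395855, 3022/205359, -548/479171, 2474/479171, 2474/479171, 0],
    ![1/4480, 0, 0, 0, 0, 0, 0, 0],
    ![-128/35937825, 0, -174464/11979275, -128/1026795, -33637/2395855, 34688/2395855, 34688/2395855, 0],
    ![12064/35937825, 0, 14512/11979275, 12064/1026795, 4336/2395855, -52053/2395855, 3280/479171, 0],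
    ![12064/35937825, 0, 14512/11979275, 12064/1026795, 4336/2395855, 3280/479171, -52053/2395855, 0],
    ![-575317/246430800, 1/294, 165311/3422650, -53579/880110, -8/1026795, 6032/1026795, 6032/1026795, 0]] 4352
    (by decide +kernel) (by decide +kernel) (by decide +kernel) (by decide +kernel)

theorem chk_he : Cyc.chk 4030387200 17 8 [(17, 1), (7, 3), (5, 2), (3, 3), (2, 10)] (-1920) = true := by decide +kernel

theorem mem_1920 : (-1920 : ℤ).natAbs ∈ charDegrees Cfsg.Spor.He := by
  rw [show (-1920 : ℤ).natAbs = 1920 by norm_num]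
  exact HeDegB.deg_1920

theorem eight_he0 : Eight Cfsg.Spor.He := by
  have hs : IsSimpleGroup Cfsg.Spor.He := (SporadicB.HePerm.isHe_of_card_le HeDegA.card_he.le).1
  have : Fact (Nat.Prime 17) := ⟨by norm_num⟩
  refine Cyc.eight_of_elt (p := 17) (by norm_num) H492.IMHe.o17 H492.IMHe.card17 (e := 8) (t := 2) (by norm_num)
    HeDegA.card_he (by norm_num) (by norm_num) (by norm_num) (by norm_num)
    (L := [(17, 1), (7, 3), (5, 2), (3, 3), (2, 10)]) (by
      intro pa hpa
      fin_cases hpa <;> norm_num) (by decide +kernel) (by norm_num) (by norm_num) (d0 := -1920) mem_1920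
    (by decide) (by decide) chk_he [680, 1275, 4352] ?_ (by decide) (by decide)
  intro k hk
  simp only [List.mem_cons, List.not_mem_nil, or_false] at hk
  rcases hk with rfl | rfl | rfl
  · exact ⟨HeDegA.deg_680, by norm_num⟩
  · exact ⟨HeDegA.deg_1275, by norm_num⟩
  · exact ⟨deg_4352, by norm_num⟩

/-- **The Held group.** -/
theorem eight_he {S : Type*} [Group S] (h : Cfsg.Spor.IsoHe S) : Eight S := by
  obtain ⟨e⟩ := h
  exact eight_he0.of_equiv e

end Cfsg.Agent.H289.Eight.He
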