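import Cfsg.Agent.H561.Eight.Blk
import Cfsg.Agent.H653.Sieve.Check

/-!
# Eight degrees from a cyclic block and a few known degrees (helper289, S4899)

`G` simple, `P` a self-centralizing Sylow subgroup of order `p`, `e = |N(P) : P|`; one known nonexceptional degree `|d₀|`.
If no divisor `z ≡ 1` of `|G|` gives a divisor `|1 + a d₀ + b z|` of `|G|` (`a + b = e - 1`, `a ≥ 1`) then there are two more
nonexceptional degrees; with the exceptional degree, `1`, `|d₀|` and three degrees divisible by `p` there are eight.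
-/

set_option autoImplicit false

namespace Cfsg.Agent.H289.Eight.Cyc

open Cfsg Subgroup Cfsg.Agent.H664.Eight Cfsg.Agent.SmallSimple.DegreeData Cfsg.Agent.H424
open Cfsg.Agent.H653.Sieve (facProd allDiv allDiv_spec)

universe u

/-- no `b` gives a divisor -/
def noSum (N e : ℕ) (d0 z : ℤ) : Bool :=
  (List.range (e - 1)).all fun b => !(Nat.beq (N % (1 + ((e - 1 - b : ℕ) : ℤ) * d0 + (b : ℤ) * z).natAbs) 0)

/-- the check -/
def chk (N p e : ℕ) (L : List (ℕ × ℕ)) (d0 : ℤ) : Bool :=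
  allDiv (N + 1) (fun m => (cond (Nat.beq (m % p) 1) (noSum N e d0 m) true) &&
    (cond (Nat.beq (m % p) (p - 1)) (noSum N e d0 (-m)) true)) L 1

theorem sum_two (d0 z : ℤ) : ∀ l : List ℤ, (∀ x ∈ l, x = d0 ∨ x = z) →
    ∃ b, b ≤ l.length ∧ l.sum = ((l.length - b : ℕ) : ℤ) * d0 + (b : ℤ) * z ∧ (b = l.length → ∀ x ∈ l, x = z)
  | [], _ => ⟨0, le_rfl, by simp, fun _ x hx => absurd hx List.not_mem_nil⟩
  | x :: l, h => by
    obtain ⟨b, hb, hs, hbl⟩ := sum_two d0 z l fun y hy => h y (List.mem_cons_of_mem _ hy)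
    by_cases hxz : x = z
    · refine ⟨b + 1, by simp only [List.length_cons]; omega, ?_, ?_⟩
      · rw [List.sum_cons, hs, hxz, List.length_cons, show l.length + 1 - (b + 1) = l.length - b by omega]
        push_cast
        ring
      · intro hb' y hy
        rw [List.length_cons] at hb'
        rcases List.mem_cons.1 hy with rfl | hy
        · exact hxz
        · exact hbl (by omega) y hy
    · have hxd : x = d0 := (h x List.mem_cons_self).resolve_right hxz
      refine ⟨b, by simp only [List.length_cons]; omega, ?_, ?_⟩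
      · rw [List.sum_cons, hs, hxd, List.length_cons, show l.length + 1 - b = (l.length - b) + 1 by omega]
        push_cast
        ring
      · intro hb'
        rw [List.length_cons] at hb'
        omega

variable {G : Type u} [Group G] [Finite G] {p : ℕ} [hp : Fact p.Prime] {M : Ideal AlgInt} {P : Sylow p G} {e t : ℕ}

/-- **Two new nonexceptional degrees.** -/
theorem two_new (hp2 : 2 < p) (D : BlockData p M P e t) (hP : Nat.card P = p) (ht : e * t = p - 1) {N : ℕ}
    (hN : Nat.card G = N) {L : List (ℕ × ℕ)} (hL : ∀ pa ∈ L, pa.1.Prime) (hLN : facProd L = N) {d0 : ℤ}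
    (hd0 : d0 ∈ D.degs) (hc : chk N p e L d0 = true) :
    ∃ z1 ∈ D.degs, ∃ z2 ∈ D.degs, z1 ≠ d0 ∧ z2 ≠ d0 ∧ z1 ≠ z2 := by
  by_contra hcon
  push Not at hcon
  obtain ⟨z, hz, hall⟩ : ∃ z ∈ D.degs, ∀ x ∈ D.degs, x = d0 ∨ x = z := by
    by_cases h : ∃ z ∈ D.degs, z ≠ d0
    · obtain ⟨z, hz, hzd⟩ := h
      refine ⟨z, hz, fun x hx => ?_⟩
      by_cases hxd : x = d0
      · exact Or.inl hxd
      · exact Or.inr (hcon x hx z hz hxd hzd)
    · push Not at h
      exact ⟨d0, hd0, fun x hx => Or.inl (h x hx)⟩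
  have hlen := D.length_degs
  obtain ⟨b, hb, hs, -⟩ : ∃ b, b < D.degs.length ∧ D.degs.sum = ((D.degs.length - b : ℕ) : ℤ) * d0 + (b : ℤ) * z ∧
      True := by
    obtain ⟨b, hb, hs, hbl⟩ := sum_two d0 z D.degs hall
    rcases Nat.lt_or_ge b D.degs.length with h1 | h1
    · exact ⟨b, h1, hs, trivial⟩
    · have h2 : b = D.degs.length := le_antisymm hb h1
      have h3 := hbl h2 d0 hd0
      refine ⟨0, ?_, ?_, trivial⟩
      · rw [← h2] at hb ⊢
        rcases Nat.eq_zero_or_pos b with h4 | h4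
        · rw [h2] at h4
          have := List.length_pos_of_mem hd0
          omega
        · exact h4
      · rw [hs, h2, ← h3]
        simp
  obtain ⟨h1, h2, h3⟩ := D.degs_spec hP z hz
  rw [hN] at h2
  have hN0 : N ≠ 0 := by rw [← hN]; exact Nat.card_pos.ne'
  -- the square
  have hsq : z.natAbs * z.natAbs < N + 1 := by
    have h4 := D.sum_sq_le
    have h5 : z ^ 2 ≤ (D.degs.map (· ^ 2)).sum :=
      List.single_le_sum (fun x hx => by
        obtain ⟨y, -, rfl⟩ := List.mem_map.1 hx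
        exact sq_nonneg _) _ (List.mem_map.2 ⟨z, hz, rfl⟩)
    have h6 : 0 ≤ (t : ℤ) * (D.f : ℤ) ^ 2 := by positivity
    rw [hN] at h4
    have h7 : z ^ 2 ≤ N := by linarith
    have h8 : ((z.natAbs * z.natAbs : ℕ) : ℤ) = z ^ 2 := by
      push_cast
      rw [← sq, sq_abs]
    have h9 : ((z.natAbs * z.natAbs : ℕ) : ℤ) ≤ (N : ℤ) := by rw [h8]; exact h7
    have h10 : z.natAbs * z.natAbs ≤ N := by exact_mod_cast h9
    omega
  have h4 := allDiv_spec hL hc z.natAbs (by rw [hLN]; exact h2) (by rwa [one_mul])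
  rw [one_mul, Bool.and_eq_true] at h4
  have hkey : noSum N e d0 z = true := by
    rcases Int.natAbs_eq z with h5 | h5
    · have h6 : z.natAbs % p = 1 := by
        have h7 : ((z.natAbs : ℕ) : ℤ) % p = 1 := by
          rw [← h5]
          have := h1
          unfold Int.ModEq at this
          rw [this]
          exact Int.emod_eq_of_lt (by norm_num) (by exact_mod_cast hp.out.one_lt)
        exact_mod_cast h7
      have h7 := h4.1
      rw [h6] at h7
      rw [h5]
      exact h7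
    · have h6 : z.natAbs % p = p - 1 := by
        have h7 : ((z.natAbs : ℕ) : ℤ) % p = p - 1 := by
          have h8 : ((z.natAbs : ℕ) : ℤ) ≡ p - 1 [ZMOD p] := by
            have h9 : ((z.natAbs : ℕ) : ℤ) = - z := by omega
            rw [h9]
            have h10 := h1.neg
            refine h10.trans ?_
            exact (Int.modEq_iff_dvd.2 ⟨1, by ring⟩)
          unfold Int.ModEq at h8
          rw [h8]
          exact Int.emod_eq_of_lt (by have := hp.out.one_lt; omega) (by omega)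
        have h8 : 1 ≤ p := hp.out.one_lt.le
        have h9 : ((z.natAbs % p : ℕ) : ℤ) = ((p - 1 : ℕ) : ℤ) := by
          rw [Int.natCast_mod, h7, Nat.cast_sub h8, Nat.cast_one]
        exact_mod_cast h9
      have h7 := h4.2
      rw [h6] at h7
      rw [h5]
      simpa using h7
  -- the exceptional degree
  have h5 := D.dexc_eq ht
  have h6 := D.f_dvd ht
  rw [hN, ← D.natAbs_dexc, ← h5, hs] at h6
  unfold noSum at hkey
  rw [List.all_eq_true] at hkey
  have h7 := hkey b (List.mem_range.2 (by omega))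
  rw [show D.degs.length = e - 1 by omega] at h6
  rw [show (1 + ((((e - 1 - b : ℕ) : ℤ)) * d0 + (b : ℤ) * z)) = 1 + ((e - 1 - b : ℕ) : ℤ) * d0 + (b : ℤ) * z by ring] at h6
  rw [Nat.mod_eq_zero_of_dvd h6] at h7
  exact absurd h7 (by decide)

/-- **Eight degrees.** -/
theorem eight_of_block [IsSimpleGroup G] (hp2 : 2 < p) (hM : IsPModular p M) (D : BlockData p M P e t)
    (hP : Nat.card P = p) (hC : Nat.card (centralizer ((P : Subgroup G) : Set G)) = p) (ht : e * t = p - 1) {N : ℕ}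
    (hN : Nat.card G = N) (hNp : ¬ N.Prime) (h2 : 2 ∣ N) {L : List (ℕ × ℕ)} (hL : ∀ pa ∈ L, pa.1.Prime)
    (hLN : facProd L = N) (he1 : 1 < e) (he2 : e + 1 < p) {d0 : ℤ} (hd0 : d0.natAbs ∈ charDegrees G)
    (h1 : d0 ≡ 1 [ZMOD p]) (hd1 : d0.natAbs ≠ 1) (hc : chk N p e L d0 = true) (ks : List ℕ)
    (hks : ∀ k ∈ ks, k ∈ charDegrees G ∧ p ∣ k) (hnd : ks.Nodup) (hlen : 3 ≤ ks.length) : Eight G := by
  have hpp : p.Prime := hp.out
  have e1 : ¬ (e : ℤ) ≡ 1 [ZMOD p] := by
    intro h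
    have h3 := (Int.modEq_iff_dvd.1 h.symm)
    have h4 := Int.le_of_dvd (by omega) h3
    omega
  have e2 : ¬ (e : ℤ) ≡ -1 [ZMOD p] := by
    intro h
    have h3 := (Int.modEq_iff_dvd.1 h.symm)
    have h4 := Int.le_of_dvd (by omega) h3
    omega
  have e3 : ¬ (e : ℤ) ≡ 0 [ZMOD p] := by
    intro h
    have h3 := (Int.modEq_iff_dvd.1 h.symm)
    have h4 := Int.le_of_dvd (by omega) h3
    omega
  have e4 : ¬ (1 : ℤ) ≡ -1 [ZMOD p] := by
    intro h
    have h3 := (Int.modEq_iff_dvd.1 h.symm)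
    have h4 := Int.le_of_dvd (by omega) h3
    omega
  have e5 : ¬ (1 : ℤ) ≡ 0 [ZMOD p] := by
    intro h
    have h3 := (Int.modEq_iff_dvd.1 h.symm)
    have h4 := Int.le_of_dvd (by omega) h3
    omega
  have hd0m : d0 ∈ D.degs := H561.Eight.mem_degs hM D hP hC ht hd0 h1 hd1 e1 e2 e4
  obtain ⟨z1, hz1, z2, hz2, n1, n2, n12⟩ := two_new hp2 D hP ht hN hL hLN hd0m hc
  have h3 : ∀ z ∈ D.degs, 3 ≤ z.natAbs :=
    BlockTools.degs_three_le (by rw [hN]; exact hNp) (by rw [hN]; exact h2) D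
  have hmem : ∀ z ∈ D.degs, z.natAbs ∈ charDegrees G := by
    intro z hz
    obtain ⟨χ, hχ, rfl⟩ := List.mem_map.1 hz
    exact ⟨χ, (D.natAbs_sd (List.mem_cons_of_mem _ hχ)).symm⟩
  have hmod : ∀ z ∈ D.degs, z ≡ 1 [ZMOD p] := fun z hz => (D.degs_spec hP z hz).1
  have habs : ∀ z ∈ D.degs, ∀ z' ∈ D.degs, z ≠ z' → z.natAbs ≠ z'.natAbs := by
    intro z hz z' hz' hne h
    rcases Int.natAbs_eq_natAbs_iff.1 h with h4 | h4
    · exact hne h4
    · apply e4
      have h5 := hmod z hz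
      rw [h4] at h5
      exact h5.symm.trans (hmod z' hz').neg
  have hp0 : ∀ z ∈ D.degs, ¬ p ∣ z.natAbs := by
    intro z hz h
    have h4 : (p : ℤ) ∣ z := Int.natCast_dvd.2 h
    apply e5
    exact (hmod z hz).symm.trans ((Int.modEq_zero_iff_dvd).2 h4)
  -- the exceptional degree
  obtain ⟨Θ, hΘ⟩ := D.exists_X ht
  have hf : D.f ∈ charDegrees G := ⟨Θ, D.deg_X Θ hΘ⟩
  have hfm := D.dexc_modEq hP ht
  have hfz : ∀ z ∈ D.degs, z.natAbs ≠ D.f := by
    intro z hz h
    rw [← D.natAbs_dexc] at h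
    rcases Int.natAbs_eq_natAbs_iff.1 h with h4 | h4
    · rw [← h4] at hfm
      exact e1 (hfm.symm.trans (hmod z hz))
    · have h5 : D.dexc = -z := by omega
      rw [h5] at hfm
      exact e2 (hfm.symm.trans (hmod z hz).neg)
  have hf1 : D.f ≠ 1 := by
    intro h
    rw [← D.natAbs_dexc] at h
    rcases Int.natAbs_eq_natAbs_iff.1 (h.trans Int.natAbs_one.symm) with h4 | h4
    · rw [h4] at hfm; exact e1 hfm.symm
    · rw [h4] at hfm; exact e2 hfm.symm
  have hfp : ¬ p ∣ D.f := by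
    intro h
    rw [← D.natAbs_dexc] at h
    have h4 : (p : ℤ) ∣ D.dexc := Int.natCast_dvd.2 h
    exact e3 (hfm.symm.trans ((Int.modEq_zero_iff_dvd).2 h4))
  refine eight_of_list (1 :: d0.natAbs :: D.f :: z1.natAbs :: z2.natAbs :: ks) ?_ (by simp only [List.length_cons]; omega) ?_
  · have hk1 : ∀ m : ℕ, ¬ p ∣ m → m ∉ ks := fun m hm h => hm (hks m h).2
    have hp1 : ¬ p ∣ 1 := fun h => hpp.one_lt.ne' (Nat.dvd_one.1 h)
    simp only [List.nodup_cons, List.mem_cons, not_or]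
    refine ⟨⟨?_, ?_, ?_, ?_, hk1 _ hp1⟩, ⟨hfz d0 hd0m, habs _ hd0m _ hz1 n1.symm, habs _ hd0m _ hz2 n2.symm,
      hk1 _ (hp0 _ hd0m)⟩, ⟨(hfz _ hz1).symm, (hfz _ hz2).symm, hk1 _ hfp⟩, ⟨habs _ hz1 _ hz2 n12, hk1 _ (hp0 _ hz1)⟩,
      hk1 _ (hp0 _ hz2), hnd⟩
    · have := h3 d0 hd0m; omega
    · exact hf1.symm
    · have := h3 z1 hz1; omega
    · have := h3 z2 hz2; omega
  · intro d hd
    simp only [List.mem_cons] at hd
    rcases hd with rfl | rfl | rfl | rfl | rfl | hd
    · exact one_mem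
    · exact hd0
    · exact hf
    · exact hmem z1 hz1
    · exact hmem z2 hz2
    · exact (hks d hd).1

/-- a self-centralizing subgroup -/
theorem exists_R {G : Type u} [Group G] [Finite G] {p : ℕ} {x : G} (hx : orderOf x = p)
    (hc : Nat.card (centralizer ({x} : Set G)) = p) :
    ∃ R : Subgroup G, Nat.card R = p ∧ centralizer (R : Set G) = R := by
  have h1 : Nat.card (zpowers x) = p := by rw [Nat.card_zpowers, hx]
  have h2 : centralizer ((zpowers x : Subgroup G) : Set G) = centralizer ({x} : Set G) := by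
    rw [zpowers_eq_closure, centralizer_closure]
  have h3 : zpowers x ≤ centralizer ({x} : Set G) := by
    rw [zpowers_le]
    exact mem_centralizer_singleton_iff.2 rfl
  refine ⟨zpowers x, h1, ?_⟩
  rw [h2]
  exact (Subgroup.eq_of_le_of_card_ge h3 (by rw [hc, h1])).symm

/-- **Eight degrees** from an element `x` of order `p` with `|C(x)| = p`. -/
theorem eight_of_elt {G : Type u} [Group G] [Finite G] [IsSimpleGroup G] {p : ℕ} [hp : Fact p.Prime] (hp2 : 2 < p)
    {x : G} (hx : orderOf x = p) (hcx : Nat.card (centralizer ({x} : Set G)) = p) {e t : ℕ} (ht : e * t = p - 1) {N : ℕ}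
    (hN : Nat.card G = N) (hpp : ¬ p ^ 2 ∣ N) (he : N / p % p = e) (hNp : ¬ N.Prime) (h2 : 2 ∣ N)
    {L : List (ℕ × ℕ)} (hL : ∀ pa ∈ L, pa.1.Prime)
    (hLN : facProd L = N) (he1 : 1 < e) (he2 : e + 1 < p) {d0 : ℤ} (hd0 : d0.natAbs ∈ charDegrees G)
    (h1 : d0 ≡ 1 [ZMOD p]) (hd1 : d0.natAbs ≠ 1) (hc : chk N p e L d0 = true) (ks : List ℕ)
    (hks : ∀ k ∈ ks, k ∈ charDegrees G ∧ p ∣ k) (hnd : ks.Nodup) (hlen : 3 ≤ ks.length) : Eight G := by
  obtain ⟨M, P, hM, hP, hC, ⟨D⟩⟩ := H561.Eight.exists_blk (G := G) (p := p) (by omega) (exists_R hx hcx)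
    (by rw [hN]; exact hpp) ht (by rw [hN]; exact he)
  exact eight_of_block hp2 hM D hP hC ht hN hNp h2 hL hLN he1 he2 hd0 h1 hd1 hc ks hks hnd hlen

end Cfsg.Agent.H289.Eight.Cyc
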