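import Cfsg.Agent.H289.Eight.PCnt

/-!
# Splitting the loops (helper289, for S4899)

Smaller pieces keep the memory of the kernel small.
-/

set_option autoImplicit false

namespace Cfsg.Agent.H289.Eight.PRep

open Cfsg.Agent.SporadicA.PermTab Cfsg.Agent.H678.DG Cfsg.Agent.H678.DG.Blk Cfsg.Agent.H678.DG.Pts

/-- two loops, the blocks `s ≤ c < s + n` -/
def allS (p : ℕ → Bool) (s n m : ℕ) : Bool :=
  allB (fun c => frcB (Nat.mul m (Nat.add s c)) fun b => allB (fun k => frcB (Nat.add b k) p) m) n

theorem allS_spec {p : ℕ → Bool} {s n m : ℕ} (h : allS p s n m = true) :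
    ∀ c, s ≤ c → c < s + n → ∀ k < m, p (m * c + k) = true := by
  intro c hs hc k hk
  have h1 := (allB_iff _ _).1 h (c - s) (by omega)
  rw [frcB_eq] at h1
  have h2 := (allB_iff _ _).1 h1 k hk
  rw [frcB_eq] at h2
  have h3 : Nat.add s (c - s) = c := Nat.add_sub_cancel' hs
  rw [h3] at h2
  exact h2

theorem all2_of {p : ℕ → Bool} {n m : ℕ} (h : ∀ c < n, ∀ k < m, p (m * c + k) = true) : all2 p n m = true :=
  (allB_iff _ _).2 fun c hc => (allB_iff _ _).2 fun k hk => h c hc k hk

/-- two parts -/
theorem all2_two {p : ℕ → Bool} {a b m : ℕ} (h1 : allS p 0 a m = true) (h2 : allS p a b m = true) :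
    all2 p (a + b) m = true := by
  refine all2_of fun c hc k hk => ?_
  by_cases h : c < a
  · exact allS_spec h1 c (Nat.zero_le _) (by omega) k hk
  · exact allS_spec h2 c (by omega) hc k hk

/-- four parts -/
theorem all2_four {p : ℕ → Bool} {a b c d m : ℕ} (h1 : allS p 0 a m = true) (h2 : allS p a b m = true)
    (h3 : allS p (a + b) c m = true) (h4 : allS p (a + b + c) d m = true) :
    all2 p (a + b + c + d) m = true := by
  refine all2_of fun i hi k hk => ?_
  by_cases h : i < a
  · exact allS_spec h1 i (Nat.zero_le _) (by omega) k hk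
  by_cases h' : i < a + b
  · exact allS_spec h2 i (by omega) h' k hk
  by_cases h'' : i < a + b + c
  · exact allS_spec h3 i (by omega) h'' k hk
  · exact allS_spec h4 i (by omega) hi k hk

end Cfsg.Agent.H289.Eight.PRep
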