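import Cfsg.Agent.H289.Eight.FiQRep
import Cfsg.Agent.H289.Eight.PSplit

/-!
# Fi22 on 61776 points: classes of the stabiliser (helper289, for S4899)
-/

set_option autoImplicit false
set_option maxRecDepth 100000

namespace Cfsg.Agent.H289.Eight.FiQAct

open Cfsg Equiv Cfsg.Spor.Fi22 Cfsg.Agent.H678.DG Cfsg.Agent.H678.DG.Blk Cfsg.Agent.H678.DG.Pts
  Cfsg.Agent.H289.Eight.FiQRep Cfsg.Agent.H289.Eight.PRep Cfsg.Agent.SporadicA.PermTab

/-- the action of a generator; the point is forced -/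
def A (x : Gen) (i : ℕ) : ℕ := frc i fun j => look (tab x) j

theorem rep_of (x : Gen) (i : Fin 61776) : ((phi (PresentedGroup.of x) i : Fin 61776) : ℕ) = A x i := by
  rw [phi_of]
  rfl

/-- the roots -/
def bs : List ℕ := [1, 1576, 23976]

/-- the parents -/
def pr (i : ℕ) : ℕ := look FiQData.pr i

/-- the words of the stabiliser -/
def KW : List (List Gen) := [[.a], [.c], [.e], [.g], [.i], [.d, .h, .f, .e, .d, .c, .b, .a, .b, .c, .d, .e, .f, .h, .d]]

/-- sizes -/
def kk (j : ℕ) : ℕ := [1, 1575, 22400, 37800].getD j 0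

/-- the words mapping 0 to the roots -/
def gam (j : ℕ) : List Gen := [[], [.b], [.d, .b], [.h, .d]].getD j []

/-- the collapsed matrix -/
def B (i j : ℕ) : ℕ := ([[0, 0, 0, 37800], [0, 864, 13824, 23112], [0, 972, 13608, 23220], [1, 963, 13760, 23076]].getD i []).getD j 0

/-- the check of the forest of parents -/
def chkP (x : ℕ) : Bool := bor (Nat.beq (rt bs (lab bs x)) x) (frcB (pr x) fun y => band (Nat.blt y x)
    (band (Nat.beq (lab bs y) (lab bs x)) (anyB (fun w => Nat.beq (av A w y) x) KW)))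

theorem lab_eq (x : ℕ) : lab bs x = if x < 1 then 0 else if x < 1576 then 1 else if x < 23976 then 2 else 3 := by
  have h : lab bs x = cond (Nat.blt x 1) 0 (Nat.succ (cond (Nat.blt x 1576) 0 (Nat.succ
    (cond (Nat.blt x 23976) 0 (Nat.succ 0))))) := rfl
  rw [h]
  simp only [Bool.cond_eq_ite, Nat.blt_eq]
  split_ifs <;> rfl

theorem lab_iff (x : ℕ) : (lab bs x = 0 ↔ x < 1) ∧ (lab bs x = 1 ↔ 1 ≤ x ∧ x < 1576) ∧
    (lab bs x = 2 ↔ 1576 ≤ x ∧ x < 23976) ∧ (lab bs x = 3 ↔ 23976 ≤ x) := by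
  have h := lab_eq x
  refine ⟨?_, ?_, ?_, ?_⟩ <;> (split_ifs at h <;> omega)

theorem cls : ∀ j < 4, ((Finset.range 61776).filter (fun x => lab bs x = j)).card = kk j := by
  have h : ∀ j lo hi : ℕ, (∀ x < 61776, lab bs x = j ↔ lo ≤ x ∧ x < hi) → hi ≤ 61776 →
      ((Finset.range 61776).filter (fun x => lab bs x = j)).card = hi - lo := by
    intro j lo hi h1 h2
    have h3 : (Finset.range 61776).filter (fun x => lab bs x = j) = Finset.Ico lo hi := by
      ext x
      rw [Finset.mem_filter, Finset.mem_range, Finset.mem_Ico]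
      constructor
      · rintro ⟨h4, h5⟩
        exact (h1 x h4).1 h5
      · rintro ⟨h4, h5⟩
        have h6 := lt_of_lt_of_le h5 h2
        exact ⟨h6, (h1 x h6).2 ⟨h4, h5⟩⟩
    rw [h3, Nat.card_Ico]
  intro j hj
  interval_cases j
  · rw [h 0 0 1 (fun x hx => by have h1 := lab_iff x; omega) (by norm_num)]; rfl
  · rw [h 1 1 1576 (fun x hx => by have h1 := lab_iff x; omega) (by norm_num)]; rfl
  · rw [h 2 1576 23976 (fun x hx => by have h1 := lab_iff x; omega) (by norm_num)]; rfl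
  · rw [h 3 23976 61776 (fun x hx => by have h1 := lab_iff x; omega) (by norm_num)]; rfl

theorem c3 : chkK 61776 4 bs kk = true := chkK_of (by decide) (by decide +kernel) cls

theorem hdiv : ∀ J : Finset (Fin 4), 3 ∈ J → (∑ j ∈ J, kk j) ∣ 1045094400 → J = {3} := by decide +kernel

end Cfsg.Agent.H289.Eight.FiQAct
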