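import Cfsg.Agent.H289.Eight.FiQAct

/-!
# Fi22 on 61776 points: the collapsed matrix (helper289, for S4899)
-/

set_option autoImplicit false
set_option maxRecDepth 100000

namespace Cfsg.Agent.H289.Eight.FiQB

open Cfsg Equiv Cfsg.Spor.Fi22 Cfsg.Agent.H678.DG Cfsg.Agent.H678.DG.Blk Cfsg.Agent.H678.DG.Pts
  Cfsg.Agent.H289.Eight.FiQRep Cfsg.Agent.H289.Eight.PRep Cfsg.Agent.SporadicA.PermTab Cfsg.Agent.H289.Eight.FiQAct

/-- the check of row `i` -/
def cr (i : ℕ) : Bool := band (Nat.beq (av A (gam i) 0) (rt bs i))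
    (Nat.beq (tsum (fun k => cond (Nat.ble 23976 k) (Nat.pow 65536 (lab bs (av A (gam i) k))) 0) 286 216 0) (row (B i) 4))

theorem b0 : cr 0 = true := by decide +kernel
theorem b1 : cr 1 = true := by decide +kernel
theorem b2 : cr 2 = true := by decide +kernel
theorem b3 : cr 3 = true := by decide +kernel

theorem c4 : Pts.chkB A 61776 4 3 bs gam B = true :=
  chkB_last 23976 286 216 (by norm_num) (fun k => (lab_iff k).2.2.2) ((allB_iff _ _).2 fun i hi => by
    change cr i = true
    interval_cases i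
    · exact b0
    · exact b1
    · exact b2
    · exact b3)

end Cfsg.Agent.H289.Eight.FiQB
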