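import Cfsg.Agent.H289.Eight.FiQAct

/-!
# Fi22 on 61776 points: the forest of parents (helper289, for S4899)
-/

set_option autoImplicit false
set_option maxRecDepth 100000

namespace Cfsg.Agent.H289.Eight.FiQF

open Cfsg Equiv Cfsg.Spor.Fi22 Cfsg.Agent.H678.DG Cfsg.Agent.H678.DG.Blk Cfsg.Agent.H678.DG.Pts
  Cfsg.Agent.H289.Eight.FiQRep Cfsg.Agent.H289.Eight.PRep Cfsg.Agent.SporadicA.PermTab Cfsg.Agent.H289.Eight.FiQAct

theorem f1 : allS chkP 0 54 286 = true := by decide +kernel
theorem f2 : allS chkP 54 54 286 = true := by decide +kernel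
theorem f3 : allS chkP 108 54 286 = true := by decide +kernel
theorem f4 : allS chkP 162 54 286 = true := by decide +kernel

theorem f : all2 chkP 216 286 = true := all2_four f1 f2 f3 f4

end Cfsg.Agent.H289.Eight.FiQF
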