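import Cfsg.Agent.H289.Eight.FiQAct

/-!
# Fi22 on 61776 points: the stabiliser preserves the classes, last generator (helper289, for S4899)
-/

set_option autoImplicit false
set_option maxRecDepth 100000

namespace Cfsg.Agent.H289.Eight.FiQV

open Cfsg Equiv Cfsg.Spor.Fi22 Cfsg.Agent.H678.DG Cfsg.Agent.H678.DG.Blk Cfsg.Agent.H678.DG.Pts
  Cfsg.Agent.H289.Eight.FiQRep Cfsg.Agent.H289.Eight.PRep Cfsg.Agent.SporadicA.PermTab Cfsg.Agent.H289.Eight.FiQAct

/-- the check of the last generator -/
def cw (x : ℕ) : Bool := Nat.beq (lab bs (av A [.d, .h, .f, .e, .d, .c, .b, .a, .b, .c, .d, .e, .f, .h, .d] x)) (lab bs x)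

theorem w51 : allS cw 0 54 286 = true := by decide +kernel
theorem w52 : allS cw 54 54 286 = true := by decide +kernel
theorem w53 : allS cw 108 54 286 = true := by decide +kernel
theorem w54 : allS cw 162 54 286 = true := by decide +kernel

theorem w5 : all2 (fun x => Nat.beq (lab bs (av A [.d, .h, .f, .e, .d, .c, .b, .a, .b, .c, .d, .e, .f, .h, .d] x)) (lab bs x)) 216 286 =
    true := all2_four w51 w52 w53 w54

end Cfsg.Agent.H289.Eight.FiQV
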