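import Cfsg.Agent.H289.Eight.FiQAct

/-!
# Fi22 on 61776 points: the stabiliser preserves the classes (helper289, for S4899)
-/

set_option autoImplicit false
set_option maxRecDepth 100000

namespace Cfsg.Agent.H289.Eight.FiQW

open Cfsg Equiv Cfsg.Spor.Fi22 Cfsg.Agent.H678.DG Cfsg.Agent.H678.DG.Blk Cfsg.Agent.H678.DG.Pts
  Cfsg.Agent.H289.Eight.FiQRep Cfsg.Agent.H289.Eight.PRep Cfsg.Agent.SporadicA.PermTab Cfsg.Agent.H289.Eight.FiQAct

theorem w0 : all2 (fun x => Nat.beq (lab bs (av A [.a] x)) (lab bs x)) 216 286 = true := by decide +kernel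
theorem w1 : all2 (fun x => Nat.beq (lab bs (av A [.c] x)) (lab bs x)) 216 286 = true := by decide +kernel
theorem w2 : all2 (fun x => Nat.beq (lab bs (av A [.e] x)) (lab bs x)) 216 286 = true := by decide +kernel
theorem w3 : all2 (fun x => Nat.beq (lab bs (av A [.g] x)) (lab bs x)) 216 286 = true := by decide +kernel
theorem w4 : all2 (fun x => Nat.beq (lab bs (av A [.i] x)) (lab bs x)) 216 286 = true := by decide +kernel

end Cfsg.Agent.H289.Eight.FiQW
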