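import Cfsg.Agent.H289.Eight.FiQAct
import Cfsg.Agent.H289.Eight.FiQW
import Cfsg.Agent.H289.Eight.FiQV
import Cfsg.Agent.H289.Eight.FiQF
import Cfsg.Agent.H289.Eight.FiQB
import Cfsg.Agent.NotCT.Orders

/-!
# Fi22 on 61776 points: irreducible characters of degrees 3080, 13650, 45045 (helper289, for S4899)
-/

set_option autoImplicit false
set_option maxRecDepth 100000

namespace Cfsg.Agent.H289.Eight.FiQDeg

open Cfsg Equiv Cfsg.Spor.Fi22 Cfsg.Agent.H678.DG Cfsg.Agent.H678.DG.Blk Cfsg.Agent.H678.DG.Pts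
  Cfsg.Agent.H289.Eight.FiQRep Cfsg.Agent.H289.Eight.PRep Cfsg.Agent.SporadicA.PermTab Cfsg.Agent.H289.Eight.FiQAct

theorem card_fi22 : Nat.card Cfsg.Spor.Fi22 = 64561751654400 :=
  Cfsg.Agent.NotCT.Orders.fi22 (K := Cfsg.Spor.Fi22) ⟨MulEquiv.refl _⟩

instance finite_fi22 : Finite Cfsg.Spor.Fi22 := Nat.finite_of_card_ne_zero (by rw [card_fi22]; norm_num)

theorem c1 : allL (Pts.chkW A 61776 bs) KW = true := by
  rw [allL_iff]
  intro w hw
  simp only [KW, List.mem_cons, List.not_mem_nil, or_false] at hw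
  rcases hw with rfl | rfl | rfl | rfl | rfl | rfl
  · exact chkW_of (by decide +kernel) FiQW.w0 (by norm_num)
  · exact chkW_of (by decide +kernel) FiQW.w1 (by norm_num)
  · exact chkW_of (by decide +kernel) FiQW.w2 (by norm_num)
  · exact chkW_of (by decide +kernel) FiQW.w3 (by norm_num)
  · exact chkW_of (by decide +kernel) FiQW.w4 (by norm_num)
  · exact chkW_of (by decide +kernel) FiQV.w5 (by norm_num)

theorem c2 : Pts.chkF A 61776 bs KW pr = true := chkF_of FiQF.f (by norm_num)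

/-- The degree for an eigenvalue. -/
theorem deg (a : Fin 4 → ℚ) (t : ℚ) (L : Fin 4 → Fin 4 → ℚ) (d : ℕ)
    (ha : a 0 = 1) (hBa : ∀ i : Fin 4, ∑ j : Fin 4, (B i j : ℚ) * a j = t * a i)
    (hL : ∀ i j : Fin 4, ∑ l : Fin 4, L i l * ((B l j : ℚ) - if l = j then t else 0) =
      (if i = j then 1 else 0) - if j = 0 then a i else 0)
    (hd : (d : ℚ) * ∑ j : Fin 4, (kk j : ℚ) * (a j * a j) = (61776 : ℕ)) :
    ∃ χ : IrrCharacter Cfsg.Spor.Fi22, charDegree (χ : Cfsg.Spor.Fi22 → ℂ) = d :=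
  Pts.deg_of_pts phi (fun x => PresentedGroup.of x) A rep_of (KW := KW) (bs := bs) (pr := pr) (kk := kk) (γ := gam)
    (c₁ := 3) (B := B) (st := 1045094400) (by rw [card_fi22]) (by norm_num) (by norm_num) (by decide +kernel) (by norm_num)
    (by norm_num) (by decide +kernel) c1 c2 c3 FiQB.c4 hdiv a t L d ha hBa hL hd

theorem deg_13650 : ∃ χ : IrrCharacter Cfsg.Spor.Fi22, charDegree (χ : Cfsg.Spor.Fi22 → ℂ) = 13650 :=
  deg ![1, -1/175, 1/100, -1/175] (-216) ![![0, 0, 0, 0],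
    ![1/37800, 1/108, -1/108, 0],
    ![-1/21600, -1/1536, 5/6912, 0],
    ![1/37800, 0, 0, 0]] 13650
    (by decide +kernel) (by decide +kernel) (by decide +kernel) (by decide +kernel)

theorem deg_3080 : ∃ χ : IrrCharacter Cfsg.Spor.Fi22, charDegree (χ : Cfsg.Spor.Fi22 → ℂ) = 3080 :=
  deg ![1, 19/175, -1/350, -1/350] (-108) ![![0, 0, 0, 0],
    ![-19/18900, -127/972, 32/243, 0],
    ![1/37800, 1/108, -1/108, 0],
    ![1/37800, 0, 0, 0]] 3080
    (by decide +kernel) (by decide +kernel) (by decide +kernel) (by decide +kernel)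

theorem deg_45045 : ∃ χ : IrrCharacter Cfsg.Spor.Fi22, charDegree (χ : Cfsg.Spor.Fi22 → ℂ) = 45045 :=
  deg ![1, -1/175, -1/350, 1/525] (72) ![![0, 0, 0, 0],
    ![-1/12600, -47/9432, 2/393, 0],
    ![-1/25200, 3/8384, -11/37728, 0],
    ![1/37800, 0, 0, 0]] 45045
    (by decide +kernel) (by decide +kernel) (by decide +kernel) (by decide +kernel)


end Cfsg.Agent.H289.Eight.FiQDeg
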