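import Cfsg.Agent.H289.Eight.PSplit
import Cfsg.Agent.H289.Eight.FiQData

/-!
# Fi22 on 61776 points: the further relation number 1 (helper289, for S4899)
-/

set_option autoImplicit false
set_option maxRecDepth 100000

namespace Cfsg.Agent.H289.Eight.FiQE1

open PRep FiQData

theorem e1 : allS (fun i => rep [qd, qc, qb, qd, qe, qf, qd, qh, qi] i 10 i) 0 90 286 = true := by decide +kernel
theorem e2 : allS (fun i => rep [qd, qc, qb, qd, qe, qf, qd, qh, qi] i 10 i) 90 126 286 = true := by decide +kernel

theorem e : all2 (fun i => rep [qd, qc, qb, qd, qe, qf, qd, qh, qi] i 10 i) 216 286 = true := all2_two e1 e2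

end Cfsg.Agent.H289.Eight.FiQE1
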