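import Cfsg.Agent.H289.Eight.PRep
import Cfsg.Agent.H289.Eight.FiQData

/-!
# Fi22 on 61776 points: the generators are involutions (helper289, for S4899)
-/

set_option autoImplicit false
set_option maxRecDepth 100000

namespace Cfsg.Agent.H289.Eight.FiQInv

open PRep FiQData

theorem i_a : all2 (inv qa 61776) 216 286 = true := by decide +kernel
theorem i_b : all2 (inv qb 61776) 216 286 = true := by decide +kernel
theorem i_c : all2 (inv qc 61776) 216 286 = true := by decide +kernel
theorem i_d : all2 (inv qd 61776) 216 286 = true := by decide +kernel
theorem i_e : all2 (inv qe 61776) 216 286 = true := by decide +kernel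
theorem i_f : all2 (inv qf 61776) 216 286 = true := by decide +kernel
theorem i_g : all2 (inv qg 61776) 216 286 = true := by decide +kernel
theorem i_h : all2 (inv qh 61776) 216 286 = true := by decide +kernel
theorem i_i : all2 (inv qi 61776) 216 286 = true := by decide +kernel

end Cfsg.Agent.H289.Eight.FiQInv
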