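import Cfsg.Agent.H289.Eight.PRep
import Cfsg.Agent.H289.Eight.FiQData

/-!
# Fi22 on 61776 points: relations between two generators, part 1 (helper289, for S4899)
-/

set_option autoImplicit false
set_option maxRecDepth 100000

namespace Cfsg.Agent.H289.Eight.FiQP1

open PRep FiQData

theorem p_ab : all2 (pr6 qb qa) 216 286 = true := by decide +kernel
theorem p_ac : all2 (pr4 qc qa) 216 286 = true := by decide +kernel
theorem p_ad : all2 (pr4 qd qa) 216 286 = true := by decide +kernel
theorem p_ae : all2 (pr4 qe qa) 216 286 = true := by decide +kernel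
theorem p_af : all2 (pr4 qf qa) 216 286 = true := by decide +kernel
theorem p_ag : all2 (pr4 qg qa) 216 286 = true := by decide +kernel
theorem p_ah : all2 (pr4 qh qa) 216 286 = true := by decide +kernel
theorem p_ai : all2 (pr4 qi qa) 216 286 = true := by decide +kernel

end Cfsg.Agent.H289.Eight.FiQP1
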