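import Cfsg.Agent.H289.Eight.PRep
import Cfsg.Agent.H289.Eight.FiQData

/-!
# Fi22 on 61776 points: relations between two generators, part 2 (helper289, for S4899)
-/

set_option autoImplicit false
set_option maxRecDepth 100000

namespace Cfsg.Agent.H289.Eight.FiQP2

open PRep FiQData

theorem p_bc : all2 (pr6 qc qb) 216 286 = true := by decide +kernel
theorem p_bd : all2 (pr4 qd qb) 216 286 = true := by decide +kernel
theorem p_be : all2 (pr4 qe qb) 216 286 = true := by decide +kernel
theorem p_bf : all2 (pr4 qf qb) 216 286 = true := by decide +kernel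
theorem p_bg : all2 (pr4 qg qb) 216 286 = true := by decide +kernel
theorem p_bh : all2 (pr4 qh qb) 216 286 = true := by decide +kernel
theorem p_bi : all2 (pr4 qi qb) 216 286 = true := by decide +kernel
theorem p_hi : all2 (pr6 qi qh) 216 286 = true := by decide +kernel

end Cfsg.Agent.H289.Eight.FiQP2
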