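import Cfsg.Agent.H289.Eight.PRep
import Cfsg.Agent.H289.Eight.FiQData

/-!
# Fi22 on 61776 points: relations between two generators, part 3 (helper289, for S4899)
-/

set_option autoImplicit false
set_option maxRecDepth 100000

namespace Cfsg.Agent.H289.Eight.FiQP3

open PRep FiQData

theorem p_cd : all2 (pr6 qd qc) 216 286 = true := by decide +kernel
theorem p_ce : all2 (pr4 qe qc) 216 286 = true := by decide +kernel
theorem p_cf : all2 (pr4 qf qc) 216 286 = true := by decide +kernel
theorem p_cg : all2 (pr4 qg qc) 216 286 = true := by decide +kernel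
theorem p_ch : all2 (pr4 qh qc) 216 286 = true := by decide +kernel
theorem p_ci : all2 (pr4 qi qc) 216 286 = true := by decide +kernel
theorem p_gh : all2 (pr4 qh qg) 216 286 = true := by decide +kernel
theorem p_gi : all2 (pr4 qi qg) 216 286 = true := by decide +kernel

end Cfsg.Agent.H289.Eight.FiQP3
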