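import Cfsg.Agent.H289.Eight.PRep
import Cfsg.Agent.H289.Eight.FiQData

/-!
# Fi22 on 61776 points: relations between two generators, part 4 (helper289, for S4899)
-/

set_option autoImplicit false
set_option maxRecDepth 100000

namespace Cfsg.Agent.H289.Eight.FiQP4

open PRep FiQData

theorem p_de : all2 (pr6 qe qd) 216 286 = true := by decide +kernel
theorem p_df : all2 (pr4 qf qd) 216 286 = true := by decide +kernel
theorem p_dg : all2 (pr4 qg qd) 216 286 = true := by decide +kernel
theorem p_dh : all2 (pr6 qh qd) 216 286 = true := by decide +kernel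
theorem p_di : all2 (pr4 qi qd) 216 286 = true := by decide +kernel
theorem p_ef : all2 (pr6 qf qe) 216 286 = true := by decide +kernel
theorem p_eg : all2 (pr4 qg qe) 216 286 = true := by decide +kernel
theorem p_eh : all2 (pr4 qh qe) 216 286 = true := by decide +kernel
theorem p_ei : all2 (pr4 qi qe) 216 286 = true := by decide +kernel
theorem p_fg : all2 (pr6 qg qf) 216 286 = true := by decide +kernel
theorem p_fh : all2 (pr4 qh qf) 216 286 = true := by decide +kernel
theorem p_fi : all2 (pr4 qi qf) 216 286 = true := by decide +kernel

end Cfsg.Agent.H289.Eight.FiQP4
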