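import Mathlib
import Cfsg.Prelude.Def_Spor_Fi22
import Cfsg.Agent.H289.Eight.FiQInv
import Cfsg.Agent.H289.Eight.FiQP1
import Cfsg.Agent.H289.Eight.FiQP2
import Cfsg.Agent.H289.Eight.FiQP3
import Cfsg.Agent.H289.Eight.FiQP4
import Cfsg.Agent.H289.Eight.FiQE1
import Cfsg.Agent.H289.Eight.FiQE2
import Cfsg.Agent.H289.Eight.FiQE3

/-!
# The permutation representation of the presented Fischer group Fi22 on 61776 points (helper289, S4899)

The cosets of the subgroup `O₈⁺(2).S₃`, generated by `a, c, e, g, i` and `dhfedcbabcdefhd`.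
-/

set_option autoImplicit false
set_option maxRecDepth 100000

namespace Cfsg.Agent.H289.Eight.FiQRep

open Cfsg.Spor Cfsg.Spor.Fi22 Cfsg.Agent.H289.Eight.PRep

/-- image table of a generator -/
def tab : Gen → List ℕ
  | .a => FiQData.qa
  | .b => FiQData.qb
  | .c => FiQData.qc
  | .d => FiQData.qd
  | .e => FiQData.qe
  | .f => FiQData.qf
  | .g => FiQData.qg
  | .h => FiQData.qh
  | .i => FiQData.qi

theorem inv_all (x : Gen) : all2 (PRep.inv (tab x) 61776) 216 286 = true := by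
  cases x
  exacts [FiQInv.i_a, FiQInv.i_b, FiQInv.i_c, FiQInv.i_d, FiQInv.i_e, FiQInv.i_f, FiQInv.i_g, FiQInv.i_h, FiQInv.i_i]

theorem hinv (x : Gen) : ∀ i < 61776, look (tab x) i < 61776 ∧ look (tab x) (look (tab x) i) = i :=
  fun i hi => inv_spec (all2_spec (inv_all x) (by norm_num) i hi)

/-- the permutation of the 61776 points attached to a generator -/
def pt (x : Gen) : Equiv.Perm (Fin 61776) := pm (tab x) (hinv x)

theorem pt_apply (x : Gen) (i : Fin 61776) : ((pt x i : Fin 61776) : ℕ) = look (tab x) i := rfl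

theorem pt_mul_self (x : Gen) : pt x * pt x = 1 := pm_mul_self (tab x) (hinv x)

theorem pt_inv (x : Gen) : (pt x)⁻¹ = pt x := by rw [inv_eq_iff_mul_eq_one, pt_mul_self]

theorem four {x y : Gen} (h : all2 (pr4 (tab y) (tab x)) 216 286 = true) : (pt x * pt y) ^ 2 = 1 :=
  sq_eq_one (hinv y) (hinv x) h (by norm_num)

theorem six {x y : Gen} (h : all2 (pr6 (tab y) (tab x)) 216 286 = true) : (pt x * pt y) ^ 3 = 1 :=
  cube_eq_one (hinv y) (hinv x) h (by norm_num)

/-- the number of a generator -/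
def idx : Gen → ℕ
  | .a => 0
  | .b => 1
  | .c => 2
  | .d => 3
  | .e => 4
  | .f => 5
  | .g => 6
  | .h => 7
  | .i => 8

theorem idx_inj {x y : Gen} (h : idx x = idx y) : x = y := by cases x <;> cases y <;> first | rfl | cases h

theorem r_ab : (pt .a * pt .b) ^ 3 = 1 := six FiQP1.p_ab
theorem r_ac : (pt .a * pt .c) ^ 2 = 1 := four FiQP1.p_ac
theorem r_ad : (pt .a * pt .d) ^ 2 = 1 := four FiQP1.p_ad
theorem r_ae : (pt .a * pt .e) ^ 2 = 1 := four FiQP1.p_ae
theorem r_af : (pt .a * pt .f) ^ 2 = 1 := four FiQP1.p_af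
theorem r_ag : (pt .a * pt .g) ^ 2 = 1 := four FiQP1.p_ag
theorem r_ah : (pt .a * pt .h) ^ 2 = 1 := four FiQP1.p_ah
theorem r_ai : (pt .a * pt .i) ^ 2 = 1 := four FiQP1.p_ai
theorem r_bc : (pt .b * pt .c) ^ 3 = 1 := six FiQP2.p_bc
theorem r_bd : (pt .b * pt .d) ^ 2 = 1 := four FiQP2.p_bd
theorem r_be : (pt .b * pt .e) ^ 2 = 1 := four FiQP2.p_be
theorem r_bf : (pt .b * pt .f) ^ 2 = 1 := four FiQP2.p_bf
theorem r_bg : (pt .b * pt .g) ^ 2 = 1 := four FiQP2.p_bg
theorem r_bh : (pt .b * pt .h) ^ 2 = 1 := four FiQP2.p_bh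
theorem r_bi : (pt .b * pt .i) ^ 2 = 1 := four FiQP2.p_bi
theorem r_cd : (pt .c * pt .d) ^ 3 = 1 := six FiQP3.p_cd
theorem r_ce : (pt .c * pt .e) ^ 2 = 1 := four FiQP3.p_ce
theorem r_cf : (pt .c * pt .f) ^ 2 = 1 := four FiQP3.p_cf
theorem r_cg : (pt .c * pt .g) ^ 2 = 1 := four FiQP3.p_cg
theorem r_ch : (pt .c * pt .h) ^ 2 = 1 := four FiQP3.p_ch
theorem r_ci : (pt .c * pt .i) ^ 2 = 1 := four FiQP3.p_ci
theorem r_de : (pt .d * pt .e) ^ 3 = 1 := six FiQP4.p_de
theorem r_df : (pt .d * pt .f) ^ 2 = 1 := four FiQP4.p_df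
theorem r_dg : (pt .d * pt .g) ^ 2 = 1 := four FiQP4.p_dg
theorem r_dh : (pt .d * pt .h) ^ 3 = 1 := six FiQP4.p_dh
theorem r_di : (pt .d * pt .i) ^ 2 = 1 := four FiQP4.p_di
theorem r_ef : (pt .e * pt .f) ^ 3 = 1 := six FiQP4.p_ef
theorem r_eg : (pt .e * pt .g) ^ 2 = 1 := four FiQP4.p_eg
theorem r_eh : (pt .e * pt .h) ^ 2 = 1 := four FiQP4.p_eh
theorem r_ei : (pt .e * pt .i) ^ 2 = 1 := four FiQP4.p_ei
theorem r_fg : (pt .f * pt .g) ^ 3 = 1 := six FiQP4.p_fg
theorem r_fh : (pt .f * pt .h) ^ 2 = 1 := four FiQP4.p_fh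
theorem r_fi : (pt .f * pt .i) ^ 2 = 1 := four FiQP4.p_fi
theorem r_gh : (pt .g * pt .h) ^ 2 = 1 := four FiQP3.p_gh
theorem r_gi : (pt .g * pt .i) ^ 2 = 1 := four FiQP3.p_gi
theorem r_hi : (pt .h * pt .i) ^ 3 = 1 := six FiQP2.p_hi

theorem cox_rel_lt {x y : Gen} (h : idx x < idx y) : (pt x * pt y) ^ coxLabel edges x y = 1 := by
  cases x <;> cases y <;> first | exact absurd h (by decide) | skip
  exacts [r_ab, r_ac, r_ad, r_ae, r_af, r_ag, r_ah, r_ai, r_bc, r_bd, r_be, r_bf,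
    r_bg, r_bh, r_bi, r_cd, r_ce, r_cf, r_cg, r_ch, r_ci, r_de, r_df, r_dg,
    r_dh, r_di, r_ef, r_eg, r_eh, r_ei, r_fg, r_fh, r_fi, r_gh, r_gi, r_hi]

theorem coxLabel_comm (x y : Gen) : coxLabel edges x y = coxLabel edges y x := by
  cases x <;> cases y <;> rfl

theorem cox_rel (x y : Gen) : (pt x * pt y) ^ coxLabel edges x y = 1 := by
  rcases lt_trichotomy (idx x) (idx y) with h | h | h
  · exact cox_rel_lt h
  · have h1 := idx_inj h
    subst h1
    rw [pt_mul_self, one_pow]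
  · have h1 := cox_rel_lt h
    rw [coxLabel_comm]
    have h2 : pt x * pt y = (pt y * pt x)⁻¹ := by rw [mul_inv_rev, pt_inv, pt_inv]
    rw [h2, inv_pow, h1, inv_one]

theorem rel1 : (pt .d * pt .c * pt .b * pt .d * pt .e * pt .f * pt .d * pt .h * pt .i) ^ 10 = 1 := by
  have h := pow_eq_one tab pt pt_apply [.d, .c, .b, .d, .e, .f, .d, .h, .i] FiQE1.e (by norm_num)
  simpa [mul_assoc] using h

theorem rel2 : (pt .a * pt .b * pt .c * pt .d * pt .e * pt .f * pt .h) ^ 9 = 1 := by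
  have h := pow_eq_one tab pt pt_apply [.a, .b, .c, .d, .e, .f, .h] FiQE2.e (by norm_num)
  simpa [mul_assoc] using h

theorem rel3 : (pt .b * pt .c * pt .d * pt .e * pt .f * pt .g * pt .h) ^ 9 = 1 := by
  have h := pow_eq_one tab pt pt_apply [.b, .c, .d, .e, .f, .g, .h] FiQE3.e (by norm_num)
  simpa [mul_assoc] using h

/-- All relators of the presented Fischer group Fi22 act trivially. -/
theorem lift_eq_one : ∀ r ∈ coxRelators edges ∪ {r | r ∈ extra}, FreeGroup.lift pt r = 1 := by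
  rintro r (⟨x, -, y, -, rfl⟩ | hr)
  · rw [map_pow, map_mul, FreeGroup.lift_apply_of, FreeGroup.lift_apply_of]
    exact cox_rel x y
  · have hr' : r ∈ extra := hr
    simp only [extra, List.mem_cons, List.not_mem_nil, or_false] at hr'
    rcases hr' with rfl | rfl | rfl
    · simp only [map_mul, map_pow, FreeGroup.lift_apply_of]
      exact rel1
    · simp only [map_mul, map_pow, FreeGroup.lift_apply_of]
      exact rel2
    · simp only [map_mul, map_pow, FreeGroup.lift_apply_of]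
      exact rel3

/-- The permutation representation of the presented Fischer group Fi22 on 61776 points. -/
noncomputable def phi : Cfsg.Spor.Fi22 →* Equiv.Perm (Fin 61776) := PresentedGroup.toGroup lift_eq_one

theorem phi_of (x : Gen) : phi (PresentedGroup.of x) = pt x := PresentedGroup.toGroup.of lift_eq_one

end Cfsg.Agent.H289.Eight.FiQRep
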