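import Cfsg.Agent.H289.Eight.PRep

/-!
# Packed counting with two loops (helper289, for S4899)
-/

set_option autoImplicit false

namespace Cfsg.Agent.H289.Eight.PRep

open Equiv Cfsg.Agent.SporadicA.PermTab Cfsg.Agent.H678.DG Cfsg.Agent.H678.DG.Blk Cfsg.Agent.H678.DG.Pts

/-- the sum of `g (b + k)`, `k < m`, added to `acc` -/
def lsum (g : ℕ → ℕ) (b m : ℕ) : ℕ → ℕ :=
  Nat.rec (fun acc => acc)
    (fun k ih acc => Nat.rec 0 (fun acc' _ => ih acc') (Nat.succ (Nat.add acc (Nat.rec 0 (fun i _ => g i)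
      (Nat.succ (Nat.add b k)))))) m

theorem lsum_succ (g : ℕ → ℕ) (b m acc : ℕ) : lsum g b (m + 1) acc = lsum g b m (acc + g (b + m)) := rfl

theorem lsum_eq (g : ℕ → ℕ) (b m : ℕ) : ∀ acc, lsum g b m acc = acc + ∑ k ∈ Finset.range m, g (b + k) := by
  induction m with
  | zero => intro acc; simp [lsum]
  | succ m ih => intro acc; rw [lsum_succ, ih, Finset.sum_range_succ]; ring

/-- the sum over `n` blocks of length `m` -/
def tsum (g : ℕ → ℕ) (m n : ℕ) : ℕ → ℕ :=
  Nat.rec (fun acc => acc)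
    (fun c ih acc => Nat.rec 0 (fun acc' _ => ih acc') (Nat.succ (Nat.rec 0 (fun b _ => lsum g b m acc)
      (Nat.succ (Nat.mul m c))))) n

theorem tsum_succ (g : ℕ → ℕ) (m n acc : ℕ) : tsum g m (n + 1) acc = tsum g m n (lsum g (m * n) m acc) := rfl

theorem tsum_eq (g : ℕ → ℕ) (m n : ℕ) : ∀ acc, tsum g m n acc = acc + ∑ k ∈ Finset.range (m * n), g k := by
  induction n with
  | zero => intro acc; simp [tsum]
  | succ n ih =>
    intro acc
    rw [tsum_succ, ih, lsum_eq, Nat.mul_succ, Finset.sum_range_add]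
    ring

theorem pk_of (p : ℕ → Bool) (f : ℕ → ℕ) (T : ℕ) : ∀ n acc : ℕ,
    acc + ∑ k ∈ (Finset.range n).filter (fun k => p k = true), 65536 ^ f k = T → pk p f T n acc = true := by
  intro n
  induction n with
  | zero =>
    intro acc h
    simp only [Finset.range_zero, Finset.filter_empty, Finset.sum_empty, add_zero] at h
    rw [h]
    exact Nat.beq_refl _
  | succ n ih =>
    intro acc h
    rw [pk_succ]
    rw [Finset.range_add_one, Finset.filter_insert] at h
    cases hp : p n with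
    | true =>
      rw [hp, if_pos rfl, Finset.sum_insert (by simp)] at h
      rw [cond_true, forceB_eq]
      apply ih
      have h2 : Nat.add acc (Nat.pow 65536 (f n)) = acc + 65536 ^ f n := rfl
      rw [h2, ← h]
      ring
    | false =>
      rw [hp, if_neg (by simp)] at h
      rw [cond_false]
      exact ih _ h

/-- The collapsed matrix, for the last class, which starts at `lo`. -/
theorem chkB_last {M : ℕ} {S : Type} {A : S → ℕ → ℕ} {n c₁ : ℕ} {bs : List ℕ} {γ : ℕ → List S} {B : ℕ → ℕ → ℕ}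
    (lo m m' : ℕ) (hM : m * m' = M)
    (hp : ∀ k, lab bs k = c₁ ↔ lo ≤ k)
    (h : allB (fun i => band (Nat.beq (av A (γ i) 0) (rt bs i))
    (Nat.beq (tsum (fun k => cond (Nat.ble lo k) (Nat.pow 65536 (lab bs (av A (γ i) k))) 0) m m' 0) (row (B i) n))) n
      = true) : Pts.chkB A M n c₁ bs γ B = true := by
  unfold Pts.chkB
  rw [allB_iff] at h ⊢
  intro i hi
  have h1 := h i hi
  rw [band_eq_true] at h1 ⊢
  refine ⟨h1.1, pk_of _ _ _ _ _ ?_⟩
  have h2 := Nat.eq_of_beq_eq_true h1.2
  rw [tsum_eq, hM] at h2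
  rw [← h2, Finset.sum_filter]
  congr 1
  refine Finset.sum_congr rfl fun k _ => ?_
  by_cases hk : lo ≤ k
  · have h3 : Nat.beq (lab bs k) c₁ = true := by rw [(hp k).2 hk]; exact Nat.beq_refl _
    rw [if_pos h3, Nat.ble_eq_true_of_le hk, cond_true]
    rfl
  · have h3 : ¬ Nat.beq (lab bs k) c₁ = true := fun h => hk ((hp k).1 (Nat.eq_of_beq_eq_true h))
    have h4 : Nat.ble lo k = false := by
      cases h5 : Nat.ble lo k with
      | false => rfl
      | true => exact absurd (Nat.le_of_ble_eq_true h5) hk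
    rw [if_neg h3, h4, cond_false]

end Cfsg.Agent.H289.Eight.PRep
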