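import Mathlib
import Cfsg.Agent.H678.DG.Pts

/-!
# Permutation representations given by tables, larger degrees (helper289, for S4899)

Tables are lists of numbers with 2048 entries of 16 bits each. The relators are checked at the points which are minimal
along the path of the relator only (early exit); the loops have two levels.

* `pm`, `pm_apply` : the permutations
* `sq_eq_one`, `cube_eq_one` : `(yx)² = 1`, `(yx)³ = 1` for two generators
* `pow_eq_one` : `wᵏ = 1` for a word
* `chkW_of`, `chkF_of`, `chkK_of`, `chkB_of` : the hypotheses of `Pts.deg_of_pts`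
-/

set_option autoImplicit false

namespace Cfsg.Agent.H289.Eight.PRep

open Equiv Cfsg.Agent.SporadicA.PermTab Cfsg.Agent.H678.DG Cfsg.Agent.H678.DG.Blk Cfsg.Agent.H678.DG.Pts

/-- entry `c` of a list -/
def nth (l : List ℕ) (c : ℕ) : ℕ :=
  List.rec (motive := fun _ => ℕ → ℕ) (fun _ => 0) (fun x _ ih c => Nat.rec x (fun c' _ => ih c') c) l c

/-- block of 16 entries; the index is forced -/
def sub (l : List ℕ) (q : ℕ) : ℕ :=
  Nat.rec 0 (fun c _ => Nat.land (Nat.shiftRight (nth l c) (Nat.mul 256 (Nat.mod q 128)))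
    115792089237316195423570985008687907853269984665640564039457584007913129639935) (Nat.succ (Nat.div q 128))

/-- entry `i` of a table; the index of the block is forced -/
def look (l : List ℕ) (i : ℕ) : ℕ :=
  Nat.rec 0 (fun q _ => Nat.land (Nat.shiftRight (sub l q) (Nat.mul 16 (Nat.mod i 16))) 65535) (Nat.succ (Nat.div i 16))

/-- forces the argument -/
def frc (n : ℕ) (f : ℕ → ℕ) : ℕ := Nat.rec 0 (fun m _ => f m) (Nat.succ n)

theorem frc_eq (n : ℕ) (f : ℕ → ℕ) : frc n f = f n := rfl

/-- forces the argument -/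
def frcB (n : ℕ) (f : ℕ → Bool) : Bool := Nat.rec true (fun m _ => f m) (Nat.succ n)

theorem frcB_eq (n : ℕ) (f : ℕ → Bool) : frcB n f = f n := rfl

/-- two loops -/
def all2 (p : ℕ → Bool) (n m : ℕ) : Bool :=
  allB (fun c => frcB (Nat.mul m c) fun b => allB (fun k => frcB (Nat.add b k) p) m) n

theorem all2_spec {p : ℕ → Bool} {n m M : ℕ} (h : all2 p n m = true) (hM : n * m = M) : ∀ i < M, p i = true := by
  intro i hi
  have hm : 0 < m := by
    rcases Nat.eq_zero_or_pos m with h0 | h0
    · rw [h0, mul_zero] at hM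
      omega
    · exact h0
  have h1 : i / m < n := by
    rw [Nat.div_lt_iff_lt_mul hm, hM]
    exact hi
  have h2 := (allB_iff _ _).1 h (i / m) h1
  rw [frcB_eq] at h2
  have h3 := (allB_iff _ _).1 h2 (i % m) (Nat.mod_lt _ hm)
  rw [frcB_eq] at h3
  have h4 : Nat.add (Nat.mul m (i / m)) (i % m) = i := Nat.div_add_mod i m
  rwa [h4] at h3

/-- the table is an involution with values below `M` -/
def inv (l : List ℕ) (M : ℕ) (i : ℕ) : Bool :=
  frcB (look l i) fun j => Bool.rec false (Nat.beq (look l j) i) (Nat.ble (Nat.succ j) M)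

theorem rec_false (x y : Bool) : (Bool.rec false x y : Bool) = true ↔ y = true ∧ x = true := by
  cases x <;> cases y <;> simp

theorem rec_true (x y : Bool) : (Bool.rec true x y : Bool) = true ↔ (y = true → x = true) := by
  cases x <;> cases y <;> simp

theorem inv_spec {l : List ℕ} {M i : ℕ} (h : inv l M i = true) : look l i < M ∧ look l (look l i) = i := by
  have h1 := (rec_false _ _).1 ((frcB_eq _ _).symm.trans h)
  exact ⟨Nat.le_of_ble_eq_true h1.1, Nat.eq_of_beq_eq_true h1.2⟩

/-- path of four letters -/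
def pr4 (x y : List ℕ) (i : ℕ) : Bool :=
  Nat.rec true (fun j _ => Bool.rec true
    (Nat.rec true (fun k _ => Bool.rec true
      (Nat.rec true (fun l _ => Bool.rec true
        (Nat.beq (look y l) i)
      (Nat.ble i l)) (Nat.succ (look x k)))
    (Nat.ble i k)) (Nat.succ (look y j)))
  (Nat.ble i j)) (Nat.succ (look x i))

/-- path of six letters -/
def pr6 (x y : List ℕ) (i : ℕ) : Bool :=
  Nat.rec true (fun j _ => Bool.rec true
    (Nat.rec true (fun k _ => Bool.rec true
      (Nat.rec true (fun l _ => Bool.rec true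
        (Nat.rec true (fun m _ => Bool.rec true
          (Nat.rec true (fun n _ => Bool.rec true
            (Nat.beq (look y n) i)
          (Nat.ble i n)) (Nat.succ (look x m)))
        (Nat.ble i m)) (Nat.succ (look y l)))
      (Nat.ble i l)) (Nat.succ (look x k)))
    (Nat.ble i k)) (Nat.succ (look y j)))
  (Nat.ble i j)) (Nat.succ (look x i))

theorem ble_of {a b : ℕ} (h : ¬ b < a) : Nat.ble a b = true := Nat.ble_eq_true_of_le (Nat.le_of_not_lt h)

/-- Soundness of the path of four letters, in terms of an arbitrary predicate. -/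
theorem pr4_spec {x y : List ℕ} {M : ℕ} (F : ℕ → Prop) (hlx : ∀ i < M, look x i < M) (hly : ∀ i < M, look y i < M)
    (hx : ∀ i < M, F (look x i) → F i) (hy : ∀ i < M, F (look y i) → F i)
    (h : ∀ i < M, pr4 x y i = true)
    (hF : ∀ i < M, look y (look x (look y (look x i))) = i → F i) : ∀ i < M, F i := by
  intro i
  induction i using Nat.strong_induction_on with
  | _ i ih =>
    intro hi
    have h1 : look x i < M := hlx _ hi
    have h2 : look y (look x i) < M := hly _ h1
    have h3 : look x (look y (look x i)) < M := hlx _ h2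
    by_cases c1 : look x i < i
    · exact hx _ hi (ih _ c1 h1)
    by_cases c2 : look y (look x i) < i
    · exact hx _ hi (hy _ h1 (ih _ c2 h2))
    by_cases c3 : look x (look y (look x i)) < i
    · exact hx _ hi (hy _ h1 (hx _ h2 (ih _ c3 h3)))
    have e := h i hi
    have e1 := (rec_true _ _).1 e (ble_of c1)
    have e2 := (rec_true _ _).1 e1 (ble_of c2)
    have e3 := (rec_true _ _).1 e2 (ble_of c3)
    exact hF i hi (Nat.eq_of_beq_eq_true e3)

/-- Soundness of the path of six letters. -/
theorem pr6_spec {x y : List ℕ} {M : ℕ} (F : ℕ → Prop) (hlx : ∀ i < M, look x i < M) (hly : ∀ i < M, look y i < M)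
    (hx : ∀ i < M, F (look x i) → F i) (hy : ∀ i < M, F (look y i) → F i)
    (h : ∀ i < M, pr6 x y i = true)
    (hF : ∀ i < M, look y (look x (look y (look x (look y (look x i))))) = i → F i) : ∀ i < M, F i := by
  intro i
  induction i using Nat.strong_induction_on with
  | _ i ih =>
    intro hi
    have h1 : look x i < M := hlx _ hi
    have h2 : look y (look x i) < M := hly _ h1
    have h3 : look x (look y (look x i)) < M := hlx _ h2
    have h4 : look y (look x (look y (look x i))) < M := hly _ h3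
    have h5 : look x (look y (look x (look y (look x i)))) < M := hlx _ h4
    by_cases c1 : look x i < i
    · exact hx _ hi (ih _ c1 h1)
    by_cases c2 : look y (look x i) < i
    · exact hx _ hi (hy _ h1 (ih _ c2 h2))
    by_cases c3 : look x (look y (look x i)) < i
    · exact hx _ hi (hy _ h1 (hx _ h2 (ih _ c3 h3)))
    by_cases c4 : look y (look x (look y (look x i))) < i
    · exact hx _ hi (hy _ h1 (hx _ h2 (hy _ h3 (ih _ c4 h4))))
    by_cases c5 : look x (look y (look x (look y (look x i)))) < i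
    · exact hx _ hi (hy _ h1 (hx _ h2 (hy _ h3 (hx _ h4 (ih _ c5 h5)))))
    have e := h i hi
    have e1 := (rec_true _ _).1 e (ble_of c1)
    have e2 := (rec_true _ _).1 e1 (ble_of c2)
    have e3 := (rec_true _ _).1 e2 (ble_of c3)
    have e4 := (rec_true _ _).1 e3 (ble_of c4)
    have e5 := (rec_true _ _).1 e4 (ble_of c5)
    exact hF i hi (Nat.eq_of_beq_eq_true e5)

/-- action of a word of tables, the last letter acts first; the intermediate points are forced -/
def act (w : List (List ℕ)) (i : ℕ) : ℕ :=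
  List.rec (motive := fun _ => ℕ) i (fun x _ ih => Nat.rec 0 (fun j _ => look x j) (Nat.succ ih)) w

theorem act_nil (i : ℕ) : act [] i = i := rfl

theorem act_cons (x : List ℕ) (w : List (List ℕ)) (i : ℕ) : act (x :: w) i = look x (act w i) := rfl

/-- repeated word with early exit -/
def rep (w : List (List ℕ)) (i : ℕ) (n : ℕ) : ℕ → Bool :=
  Nat.rec (fun j => Nat.beq j i)
    (fun _ ih j => Nat.rec true (fun k _ => Bool.rec true (ih k) (Nat.ble i k)) (Nat.succ (act w j))) n

theorem rep_succ (w : List (List ℕ)) (i n j : ℕ) :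
    rep w i (n + 1) j = Bool.rec true (rep w i n (act w j)) (Nat.ble i (act w j)) := rfl

theorem rep_spec {w : List (List ℕ)} {M i : ℕ} (F : ℕ → Prop) (hlt : ∀ j < M, act w j < M)
    (hF : ∀ j < M, F (act w j) → F j) (ih : ∀ j < i, j < M → F j) : ∀ n j, j < M → rep w i n j = true →
    F j ∨ (act w)^[n] j = i := by
  intro n
  induction n with
  | zero =>
    intro j _ h
    exact Or.inr (Nat.eq_of_beq_eq_true h)
  | succ n ihn =>
    intro j hj h
    rw [rep_succ, rec_true] at h
    have h1 := hlt j hj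
    by_cases c : act w j < i
    · exact Or.inl (hF j hj (ih _ c h1))
    · rcases ihn _ h1 (h (ble_of c)) with h2 | h2
      · exact Or.inl (hF j hj h2)
      · right
        rw [Function.iterate_succ_apply]
        exact h2

variable {M : ℕ}

/-- the permutation attached to a table -/
def pm (l : List ℕ) (h : ∀ i < M, look l i < M ∧ look l (look l i) = i) : Perm (Fin M) where
  toFun i := ⟨look l i, (h i i.2).1⟩
  invFun i := ⟨look l i, (h i i.2).1⟩
  left_inv i := Fin.ext (h i i.2).2
  right_inv i := Fin.ext (h i i.2).2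

theorem pm_apply (l : List ℕ) (h : ∀ i < M, look l i < M ∧ look l (look l i) = i) (i : Fin M) :
    ((pm l h i : Fin M) : ℕ) = look l i := rfl

theorem pm_mul_self (l : List ℕ) (h : ∀ i < M, look l i < M ∧ look l (look l i) = i) : pm l h * pm l h = 1 := by
  apply Equiv.ext
  intro i
  exact Fin.ext (h i i.2).2

section group

variable {α : Type*}

theorem fix_step {X Y : Perm α} (hX : X * X = 1) (hY : Y * Y = 1) (m : ℕ) {i : α}
    (h : ((Y * X) ^ m) (X i) = X i) : ((Y * X) ^ m) i = i := by
  have h1 : X * (Y * X) ^ m * X = ((Y * X) ^ m)⁻¹ := by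
    have hX' : X⁻¹ = X := by rw [inv_eq_iff_mul_eq_one, hX]
    have hY' : Y⁻¹ = Y := by rw [inv_eq_iff_mul_eq_one, hY]
    have h2 : X * (Y * X) ^ m * X⁻¹ = (X * (Y * X) * X⁻¹) ^ m := (conj_pow).symm
    rw [hX'] at h2
    rw [h2, ← inv_pow, mul_inv_rev, hX', hY', ← mul_assoc, mul_assoc _ X X, hX, mul_one]
  have h3 : (X * (Y * X) ^ m * X) i = i := by
    rw [Perm.mul_apply, Perm.mul_apply, h, ← Perm.mul_apply, hX, Perm.one_apply]
  rw [h1, Perm.inv_eq_iff_eq] at h3
  exact h3.symm

theorem fix_step' {X Y : Perm α} (hX : X * X = 1) (hY : Y * Y = 1) (m : ℕ) {i : α}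
    (h : ((Y * X) ^ m) (Y i) = Y i) : ((Y * X) ^ m) i = i := by
  have h1 : Y * (Y * X) ^ m * Y = ((Y * X) ^ m)⁻¹ := by
    have hX' : X⁻¹ = X := by rw [inv_eq_iff_mul_eq_one, hX]
    have hY' : Y⁻¹ = Y := by rw [inv_eq_iff_mul_eq_one, hY]
    have h2 : Y * (Y * X) ^ m * Y⁻¹ = (Y * (Y * X) * Y⁻¹) ^ m := (conj_pow).symm
    rw [hY'] at h2
    rw [h2, ← inv_pow, mul_inv_rev, hX', hY', ← mul_assoc, hY, one_mul]
  have h3 : (Y * (Y * X) ^ m * Y) i = i := by
    rw [Perm.mul_apply, Perm.mul_apply, h, ← Perm.mul_apply, hY, Perm.one_apply]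
  rw [h1, Perm.inv_eq_iff_eq] at h3
  exact h3.symm

end group

/-- Two commuting generators. -/
theorem sq_eq_one {x y : List ℕ} {n m : ℕ} (hx : ∀ i < M, look x i < M ∧ look x (look x i) = i)
    (hy : ∀ i < M, look y i < M ∧ look y (look y i) = i) (h : all2 (pr4 x y) n m = true) (hM : n * m = M) :
    (pm y hy * pm x hx) ^ 2 = 1 := by
  have key := pr4_spec (M := M) (fun i => ∀ hi : i < M, ((pm y hy * pm x hx) ^ 2) ⟨i, hi⟩ = ⟨i, hi⟩)
    (fun i hi => (hx i hi).1) (fun i hi => (hy i hi).1)
    (fun i hi h1 _ => fix_step (pm_mul_self x hx) (pm_mul_self y hy) 2 (h1 (hx i hi).1))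
    (fun i hi h1 _ => fix_step' (pm_mul_self x hx) (pm_mul_self y hy) 2 (h1 (hy i hi).1))
    (all2_spec h hM) (fun i hi h1 _ => by
      rw [pow_two]
      exact Fin.ext h1)
  apply Equiv.ext
  intro i
  exact key i i.2 i.2

/-- Two generators whose product has order three. -/
theorem cube_eq_one {x y : List ℕ} {n m : ℕ} (hx : ∀ i < M, look x i < M ∧ look x (look x i) = i)
    (hy : ∀ i < M, look y i < M ∧ look y (look y i) = i) (h : all2 (pr6 x y) n m = true) (hM : n * m = M) :
    (pm y hy * pm x hx) ^ 3 = 1 := by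
  have key := pr6_spec (M := M) (fun i => ∀ hi : i < M, ((pm y hy * pm x hx) ^ 3) ⟨i, hi⟩ = ⟨i, hi⟩)
    (fun i hi => (hx i hi).1) (fun i hi => (hy i hi).1)
    (fun i hi h1 _ => fix_step (pm_mul_self x hx) (pm_mul_self y hy) 3 (h1 (hx i hi).1))
    (fun i hi h1 _ => fix_step' (pm_mul_self x hx) (pm_mul_self y hy) 3 (h1 (hy i hi).1))
    (all2_spec h hM) (fun i hi h1 _ => by
      rw [pow_succ, pow_two]
      exact Fin.ext h1)
  apply Equiv.ext
  intro i
  exact key i i.2 i.2

/-- A power of a word; `P` are the permutations attached to the letters. -/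
theorem pow_eq_one {S : Type*} (T : S → List ℕ) (P : S → Perm (Fin M))
    (hP : ∀ x (i : Fin M), ((P x i : Fin M) : ℕ) = look (T x) i) (w : List S) {k n m : ℕ}
    (h : all2 (fun i => rep (w.map T) i k i) n m = true) (hM : n * m = M) : ((w.map P).prod) ^ k = 1 := by
  have hw : ∀ (w : List S) (i : Fin M), (((w.map P).prod i : Fin M) : ℕ) = act (w.map T) i := by
    intro w
    induction w with
    | nil => intro i; rfl
    | cons x w ih =>
      intro i
      rw [List.map_cons, List.prod_cons, Perm.mul_apply, hP, ih, List.map_cons, act_cons]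
  have hlt : ∀ j < M, act (w.map T) j < M := by
    intro j hj
    rw [← hw w ⟨j, hj⟩]
    exact Fin.is_lt _
  have hwi : ∀ j (hj : j < M), (w.map P).prod ⟨j, hj⟩ = ⟨act (w.map T) j, hlt j hj⟩ := fun j hj => Fin.ext (hw w ⟨j, hj⟩)
  have hit : ∀ (n : ℕ) (i : Fin M), (((((w.map P).prod) ^ n) i : Fin M) : ℕ) = (act (w.map T))^[n] i := by
    intro n
    induction n with
    | zero => intro i; rfl
    | succ n ih =>
      intro i
      rw [pow_succ, Perm.mul_apply, ih, hw, Function.iterate_succ_apply]
  have key : ∀ i, ∀ hi : i < M, (((w.map P).prod) ^ k) ⟨i, hi⟩ = ⟨i, hi⟩ := by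
    intro i
    induction i using Nat.strong_induction_on with
    | _ i ih =>
      intro hi
      rcases rep_spec (M := M) (i := i) (w := w.map T) (fun j => ∀ hj : j < M, (((w.map P).prod) ^ k) ⟨j, hj⟩ = ⟨j, hj⟩) hlt
        (fun j hj h1 hj' => by
          have h2 := h1 (hlt j hj)
          rw [← hwi j hj, ← Perm.mul_apply, ← pow_succ, pow_succ', Perm.mul_apply] at h2
          exact ((w.map P).prod).injective h2) (fun j hj _ hj' => ih j hj hj') k i hi (all2_spec h hM i hi) with h1 | h1
      · exact h1 hi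
      · refine Fin.ext ?_
        rw [hit]
        exact h1
  apply Equiv.ext
  intro i
  exact key i i.2

/-! ### Hypotheses of `deg_of_pts` -/

theorem chkW_of {S : Type} {A : S → ℕ → ℕ} {bs : List ℕ} {w : List S} {n m : ℕ}
    (h0 : Nat.beq (av A w 0) 0 = true)
    (h : all2 (fun x => Nat.beq (lab bs (av A w x)) (lab bs x)) n m = true) (hM : n * m = M) :
    Pts.chkW A M bs w = true := by
  unfold Pts.chkW
  rw [band_eq_true, allB_iff]
  exact ⟨h0, all2_spec h hM⟩

theorem chkF_of {S : Type} {A : S → ℕ → ℕ} {bs : List ℕ} {KW : List (List S)} {pr : ℕ → ℕ} {n m : ℕ}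
    (h : all2 (fun x => bor (Nat.beq (rt bs (lab bs x)) x) (frcB (pr x) fun y => band (Nat.blt y x)
    (band (Nat.beq (lab bs y) (lab bs x)) (anyB (fun w => Nat.beq (av A w y) x) KW)))) n m = true)
    (hM : n * m = M) : Pts.chkF A M bs KW pr = true := by
  unfold Pts.chkF
  rw [allB_iff]
  intro i hi
  have h1 := all2_spec h hM i hi
  rw [frcB_eq] at h1
  rwa [forceB_eq]

theorem lab_le (bs : List ℕ) (x : ℕ) : lab bs x ≤ bs.length := by
  induction bs with
  | nil => exact Nat.le_refl _
  | cons b bs ih =>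
    have h : lab (b :: bs) x = cond (Nat.blt x b) 0 (Nat.succ (lab bs x)) := rfl
    rw [h]
    cases Nat.blt x b with
    | true => exact Nat.zero_le _
    | false => exact Nat.succ_le_succ ih

theorem chkK_of {bs : List ℕ} {n : ℕ} {kk : ℕ → ℕ} (hn : bs.length < n)
    (h1 : allB (fun j => Nat.blt (rt bs j) M) n = true)
    (h2 : ∀ j < n, ((Finset.range M).filter (fun x => lab bs x = j)).card = kk j) : chkK M n bs kk = true := by
  unfold chkK
  rw [band_eq_true, band_eq_true]
  refine ⟨(allB_iff _ _).2 fun x _ => ?_, h1, (allB_iff _ _).2 fun j hj => ?_⟩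
  · have h3 : lab bs x < n := lt_of_le_of_lt (lab_le bs x) hn
    exact Nat.ble_eq_true_of_le h3
  · rw [cntB_iff, ← h2 j hj]
    congr 1
    refine Finset.filter_congr fun x _ => ?_
    exact ⟨Nat.eq_of_beq_eq_true, fun h => by rw [h]; exact Nat.beq_refl _⟩

theorem pk_skip (p : ℕ → Bool) (f : ℕ → ℕ) (T m : ℕ) : ∀ d acc, (∀ k, m ≤ k → k < m + d → p k = false) →
    pk p f T (m + d) acc = pk p f T m acc := by
  intro d
  induction d with
  | zero => intro acc _; rfl
  | succ d ih =>
    intro acc h
    have h1 : m + (d + 1) = (m + d) + 1 := rfl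
    rw [h1, pk_succ, h (m + d) (by omega) (by omega), cond_false, ih acc fun k hk hk' => h k hk (by omega)]

theorem chkB_of {S : Type} {A : S → ℕ → ℕ} {n c₁ : ℕ} {bs : List ℕ} {γ : ℕ → List S} {B : ℕ → ℕ → ℕ} (m : ℕ) (hm : m ≤ M)
    (hp : ∀ k, m ≤ k → k < M → lab bs k ≠ c₁)
    (h : allB (fun i => band (Nat.beq (av A (γ i) 0) (rt bs i))
    (pk (fun k => Nat.beq (lab bs k) c₁) (fun k => lab bs (av A (γ i) k)) (row (B i) n) m 0)) n = true) :
    Pts.chkB A M n c₁ bs γ B = true := by
  unfold Pts.chkB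
  rw [allB_iff] at h ⊢
  intro i hi
  have h1 := h i hi
  rw [band_eq_true] at h1 ⊢
  refine ⟨h1.1, ?_⟩
  obtain ⟨d, rfl⟩ := Nat.exists_eq_add_of_le hm
  rw [pk_skip _ _ _ _ _ _ fun k hk hk' => ?_]
  · exact h1.2
  · have h2 := hp k hk hk'
    cases h3 : Nat.beq (lab bs k) c₁ with
    | false => rfl
    | true => exact absurd (Nat.eq_of_beq_eq_true h3) h2

end Cfsg.Agent.H289.Eight.PRep
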