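import Mathlib
import Cfsg.Agent.H105.SLExt
import Cfsg.Agent.H464.PermIrr
import Cfsg.Agent.H950.Count

/-!
# Pairs of subspaces (helper289, S4899)

* `exists_pair` : `GL(V)` is transitive on the pairs of subspaces of given dimensions and given dimension of the
  intersection;
* `isIrr_two` : the difference of the permutation characters on the lines and on the points of the projective space is
  irreducible (`dim V ≥ 4`).
-/

set_option autoImplicit false
set_option linter.unusedSectionVars false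

open Module

namespace Cfsg.Agent.H289.Eight

variable {K V : Type*} [Field K] [AddCommGroup V] [Module K V] [FiniteDimensional K V]

/-- a basis adapted to two subspaces -/
theorem exists_adapted (W U : Submodule K V) {a b c : ℕ} (ha : finrank K ↥(W ⊓ U) = a) (hb : finrank K W = a + b)
    (hc : finrank K U = a + c) : ∃ u : (Fin a ⊕ Fin b) ⊕ Fin c → V, LinearIndependent K u ∧
      W = Submodule.span K (Set.range fun i : Fin a ⊕ Fin b => u (Sum.inl i)) ∧
      U = Submodule.span K (Set.range fun i : Fin a ⊕ Fin c => u (i.elim (fun j => Sum.inl (Sum.inl j)) Sum.inr)) := by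
  obtain ⟨C, hC⟩ := (W ⊓ U).exists_isCompl
  set D := W ⊓ U with hD
  have hDW : D ≤ W := inf_le_left
  have hDU : D ≤ U := inf_le_right
  have hW : D ⊔ (C ⊓ W) = W := by
    rw [← sup_inf_assoc_of_le C hDW, hC.sup_eq_top, top_inf_eq]
  have hU : D ⊔ (C ⊓ U) = U := by
    rw [← sup_inf_assoc_of_le C hDU, hC.sup_eq_top, top_inf_eq]
  have hdW : Disjoint D (C ⊓ W) := hC.disjoint.mono_right inf_le_left
  have hdU : Disjoint D (C ⊓ U) := hC.disjoint.mono_right inf_le_left
  have hfW : finrank K ↥(C ⊓ W) = b := by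
    have h1 := Submodule.finrank_sup_add_finrank_inf_eq D (C ⊓ W)
    rw [hW, hdW.eq_bot, finrank_bot, hb, ha] at h1
    omega
  have hfU : finrank K ↥(C ⊓ U) = c := by
    have h1 := Submodule.finrank_sup_add_finrank_inf_eq D (C ⊓ U)
    rw [hU, hdU.eq_bot, finrank_bot, hc, ha] at h1
    omega
  have hdWU : Disjoint W (C ⊓ U) := by
    rw [disjoint_iff]
    have : W ⊓ (C ⊓ U) = C ⊓ D := by rw [hD, inf_left_comm]
    rw [this, inf_comm]
    exact hC.disjoint.eq_bot
  let bD := (finBasisOfFinrankEq K D ha)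
  let bW := (finBasisOfFinrankEq K ↥(C ⊓ W) hfW)
  let bU := (finBasisOfFinrankEq K ↥(C ⊓ U) hfU)
  have sp : ∀ {m : ℕ} {X : Submodule K V} (b : Basis (Fin m) K X), Submodule.span K (Set.range fun i => (b i : V)) = X := by
    intro m X b
    have h1 : (Set.range fun i => (b i : V)) = X.subtype '' Set.range b := by
      rw [← Set.range_comp]; rfl
    rw [h1, Submodule.span_image, b.span_eq, Submodule.map_top, Submodule.range_subtype]
  have li : ∀ {m : ℕ} {X : Submodule K V} (b : Basis (Fin m) K X), LinearIndependent K fun i => (b i : V) :=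
    fun {m X} b => b.linearIndependent.map' X.subtype X.ker_subtype
  have sW : Submodule.span K (Set.range (Sum.elim (fun i => (bD i : V)) fun i => (bW i : V))) = W := by
    rw [Set.Sum.elim_range, Submodule.span_union, sp, sp, hW]
  refine ⟨Sum.elim (Sum.elim (fun i => (bD i : V)) fun i => (bW i : V)) fun i => (bU i : V), ?_, ?_, ?_⟩
  · refine LinearIndependent.sum_type (LinearIndependent.sum_type (li bD) (li bW) ?_) (li bU) ?_
    · rw [sp, sp]; exact hdW
    · rw [sW, sp]; exact hdWU
  · exact sW.symm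
  · have h1 : (Set.range fun i : Fin a ⊕ Fin c => Sum.elim (Sum.elim (fun i => (bD i : V)) fun i => (bW i : V))
        (fun i => (bU i : V)) (i.elim (fun j => Sum.inl (Sum.inl j)) Sum.inr)) =
        Set.range (Sum.elim (fun i => (bD i : V)) fun i => (bU i : V)) := by
      congr 1
      funext i
      rcases i with i | i <;> rfl
    rw [h1, Set.Sum.elim_range, Submodule.span_union, sp, sp, hU]

/-- **Transitivity on pairs of subspaces.** -/
theorem exists_pair {W U W' U' : Submodule K V} (h1 : finrank K W = finrank K W') (h2 : finrank K U = finrank K U')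
    (h3 : finrank K ↥(W ⊓ U) = finrank K ↥(W' ⊓ U')) :
    ∃ g : V ≃ₗ[K] V, W.map (g : V →ₗ[K] V) = W' ∧ U.map (g : V →ₗ[K] V) = U' := by
  have ha := Submodule.finrank_mono (R := K) (inf_le_left : W ⊓ U ≤ W)
  have hc := Submodule.finrank_mono (R := K) (inf_le_right : W ⊓ U ≤ U)
  obtain ⟨u, hu, e1, e2⟩ := exists_adapted W U (a := finrank K ↥(W ⊓ U)) (b := finrank K W - finrank K ↥(W ⊓ U))
    (c := finrank K U - finrank K ↥(W ⊓ U)) rfl (by omega) (by omega)
  obtain ⟨v, hv, e3, e4⟩ := exists_adapted W' U' (a := finrank K ↥(W ⊓ U)) (b := finrank K W - finrank K ↥(W ⊓ U))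
    (c := finrank K U - finrank K ↥(W ⊓ U)) h3.symm (by omega) (by omega)
  obtain ⟨g, hg⟩ := Cfsg.Agent.H105.exists_equiv_of_indep hu hv
  refine ⟨g, ?_, ?_⟩
  · rw [e3]
    conv_lhs => rw [e1]
    rw [Submodule.map_span, ← Set.range_comp]
    congr 2
    funext i
    exact hg _
  · rw [e4]
    conv_lhs => rw [e2]
    rw [Submodule.map_span, ← Set.range_comp]
    congr 2
    funext i
    exact hg _

/-- the subspaces of dimension `k` -/
def Gr (K V : Type*) [Field K] [AddCommGroup V] [Module K V] (k : ℕ) : Type _ := {W : Submodule K V // finrank K W = k}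

instance instActGr (k : ℕ) : MulAction (V ≃ₗ[K] V) (Gr K V k) where
  smul g W := ⟨W.1.map (g : V →ₗ[K] V), by rw [LinearEquiv.finrank_map_eq]; exact W.2⟩
  one_smul W := Subtype.ext (Submodule.map_id W.1)
  mul_smul g h W := Subtype.ext (Submodule.map_comp (h : V →ₗ[K] V) (g : V →ₗ[K] V) W.1)

theorem coe_smul_Gr {k : ℕ} (g : V ≃ₗ[K] V) (W : Gr K V k) : (g • W).1 = W.1.map (g : V →ₗ[K] V) := rfl

theorem finrank_inf_map (g : V ≃ₗ[K] V) (W U : Submodule K V) :
    finrank K ↥(W.map (g : V →ₗ[K] V) ⊓ U.map (g : V →ₗ[K] V)) = finrank K ↥(W ⊓ U) := by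
  rw [← Submodule.map_inf _ g.injective, LinearEquiv.finrank_map_eq]

/-- the number of orbits on pairs of subspaces -/
theorem card_orb {a b N : ℕ} (f : ∀ W U : Submodule K V, finrank K W = a → finrank K U = b → finrank K ↥(W ⊓ U) < N)
    (hsurj : ∀ i < N, ∃ W U : Submodule K V, finrank K W = a ∧ finrank K U = b ∧ finrank K ↥(W ⊓ U) = i) :
    Nat.card (MulAction.orbitRel.Quotient (V ≃ₗ[K] V) (Gr K V a × Gr K V b)) = N := by
  refine Cfsg.Agent.H464.PermIrr.card_orbits (V ≃ₗ[K] V) (fun z => ⟨finrank K ↥(z.1.1 ⊓ z.2.1), f _ _ z.1.2 z.2.2⟩)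
    ?_ ?_ ?_
  · rintro g ⟨W, U⟩
    exact Fin.ext (finrank_inf_map g W.1 U.1)
  · rintro ⟨i, hi⟩
    obtain ⟨W, U, h1, h2, h3⟩ := hsurj i hi
    exact ⟨(⟨W, h1⟩, ⟨U, h2⟩), Fin.ext h3⟩
  · rintro ⟨W, U⟩ ⟨W', U'⟩ h
    obtain ⟨g, h1, h2⟩ := exists_pair (W.2.trans W'.2.symm) (U.2.trans U'.2.symm) (congrArg Fin.val h)
    exact ⟨g, Prod.ext (Subtype.ext h1) (Subtype.ext h2)⟩

/-- subspaces of given dimensions -/
theorem exists_sub (S T : Finset (Fin (finrank K V))) : ∃ W U : Submodule K V, finrank K W = S.card ∧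
    finrank K U = T.card ∧ finrank K ↥(W ⊓ U) = (S ∩ T).card := by
  classical
  let e := finBasis K V
  have hf : ∀ S : Finset (Fin (finrank K V)), finrank K (Submodule.span K (e '' (S : Set (Fin (finrank K V))))) = S.card := by
    intro S
    have h1 : e '' (S : Set (Fin (finrank K V))) = Set.range fun i : S => e i := by
      ext x
      simp
    have h2 := finrank_span_eq_card (R := K) (b := fun i : S => e i)
      (e.linearIndependent.comp _ Subtype.val_injective)
    rw [h1, h2, Fintype.card_coe]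
  refine ⟨_, _, hf S, hf T, ?_⟩
  have h1 := Submodule.finrank_sup_add_finrank_inf_eq (Submodule.span K (e '' (S : Set (Fin (finrank K V)))))
    (Submodule.span K (e '' (T : Set (Fin (finrank K V)))))
  rw [← Submodule.span_union, ← Set.image_union, ← Finset.coe_union, hf, hf, hf] at h1
  have h2 := Finset.card_union_add_card_inter S T
  omega

theorem orb_two (hV : 4 ≤ finrank K V) :
    Nat.card (MulAction.orbitRel.Quotient (V ≃ₗ[K] V) (Gr K V 2 × Gr K V 2)) = 3 := by
  refine card_orb (fun W U hW hU => ?_) fun i hi => ?_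
  · have := Submodule.finrank_mono (R := K) (inf_le_left : W ⊓ U ≤ W)
    omega
  · obtain ⟨k, hk⟩ : ∃ k, finrank K V = k + 4 := ⟨finrank K V - 4, by omega⟩
    have hinj : ∀ a b : Fin 4, a ≠ b → (Fin.cast hk.symm (Fin.natAdd k a)) ≠ (Fin.cast hk.symm (Fin.natAdd k b)) := by
      intro a b hab h
      apply hab
      simpa [Fin.ext_iff] using h
    let v : Fin 4 ↪ Fin (finrank K V) := ⟨fun a => Fin.cast hk.symm (Fin.natAdd k a), fun a b h => by
      by_contra hne
      exact hinj a b hne h⟩
    have key : ∀ S T : Finset (Fin 4), S.card = 2 → T.card = 2 → (S ∩ T).card = i →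
        ∃ W U : Submodule K V, finrank K W = 2 ∧ finrank K U = 2 ∧ finrank K ↥(W ⊓ U) = i := by
      intro S T h1 h2 h3
      obtain ⟨W, U, h4, h5, h6⟩ := exists_sub (K := K) (V := V) (S.map v) (T.map v)
      rw [← Finset.map_inter, Finset.card_map] at h6
      rw [Finset.card_map] at h4 h5
      exact ⟨W, U, h4.trans h1, h5.trans h2, h6.trans h3⟩
    interval_cases i
    · exact key {0, 1} {2, 3} rfl rfl rfl
    · exact key {0, 1} {0, 2} rfl rfl rfl
    · exact key {0, 1} {0, 1} rfl rfl rfl

theorem orb_mixed (hV : 4 ≤ finrank K V) :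
    Nat.card (MulAction.orbitRel.Quotient (V ≃ₗ[K] V) (Gr K V 2 × Gr K V 1)) = 2 := by
  refine card_orb (fun W U hW hU => ?_) fun i hi => ?_
  · have := Submodule.finrank_mono (R := K) (inf_le_right : W ⊓ U ≤ U)
    omega
  · obtain ⟨k, hk⟩ : ∃ k, finrank K V = k + 4 := ⟨finrank K V - 4, by omega⟩
    have hinj : ∀ a b : Fin 4, a ≠ b → (Fin.cast hk.symm (Fin.natAdd k a)) ≠ (Fin.cast hk.symm (Fin.natAdd k b)) := by
      intro a b hab h
      apply hab
      simpa [Fin.ext_iff] using h
    let v : Fin 4 ↪ Fin (finrank K V) := ⟨fun a => Fin.cast hk.symm (Fin.natAdd k a), fun a b h => by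
      by_contra hne
      exact hinj a b hne h⟩
    have key : ∀ S T : Finset (Fin 4), S.card = 2 → T.card = 1 → (S ∩ T).card = i →
        ∃ W U : Submodule K V, finrank K W = 2 ∧ finrank K U = 1 ∧ finrank K ↥(W ⊓ U) = i := by
      intro S T h1 h2 h3
      obtain ⟨W, U, h4, h5, h6⟩ := exists_sub (K := K) (V := V) (S.map v) (T.map v)
      rw [← Finset.map_inter, Finset.card_map] at h6
      rw [Finset.card_map] at h4 h5
      exact ⟨W, U, h4.trans h1, h5.trans h2, h6.trans h3⟩
    interval_cases i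
    · exact key {0, 1} {2} rfl rfl rfl
    · exact key {0, 1} {0} rfl rfl rfl

theorem orb_one (hV : 4 ≤ finrank K V) :
    Nat.card (MulAction.orbitRel.Quotient (V ≃ₗ[K] V) (Gr K V 1 × Gr K V 1)) = 2 := by
  refine card_orb (fun W U hW hU => ?_) fun i hi => ?_
  · have := Submodule.finrank_mono (R := K) (inf_le_right : W ⊓ U ≤ U)
    omega
  · obtain ⟨k, hk⟩ : ∃ k, finrank K V = k + 4 := ⟨finrank K V - 4, by omega⟩
    have hinj : ∀ a b : Fin 4, a ≠ b → (Fin.cast hk.symm (Fin.natAdd k a)) ≠ (Fin.cast hk.symm (Fin.natAdd k b)) := by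
      intro a b hab h
      apply hab
      simpa [Fin.ext_iff] using h
    let v : Fin 4 ↪ Fin (finrank K V) := ⟨fun a => Fin.cast hk.symm (Fin.natAdd k a), fun a b h => by
      by_contra hne
      exact hinj a b hne h⟩
    have key : ∀ S T : Finset (Fin 4), S.card = 1 → T.card = 1 → (S ∩ T).card = i →
        ∃ W U : Submodule K V, finrank K W = 1 ∧ finrank K U = 1 ∧ finrank K ↥(W ⊓ U) = i := by
      intro S T h1 h2 h3
      obtain ⟨W, U, h4, h5, h6⟩ := exists_sub (K := K) (V := V) (S.map v) (T.map v)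
      rw [← Finset.map_inter, Finset.card_map] at h6
      rw [Finset.card_map] at h4 h5
      exact ⟨W, U, h4.trans h1, h5.trans h2, h6.trans h3⟩
    interval_cases i
    · exact key {1} {2} rfl rfl rfl
    · exact key {0} {0} rfl rfl rfl

/-- **The second constituent of the permutation character on the lines.** -/
theorem isIrr_two [Finite V] (hV : 4 ≤ finrank K V)
    (hlt : Nat.card {W : Submodule K V // finrank K W = 1} < Nat.card {W : Submodule K V // finrank K W = 2}) :
    Cfsg.IsIrrCharacter (V ≃ₗ[K] V)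
      (Cfsg.Agent.H464.PermIrr.pc (V ≃ₗ[K] V) (Gr K V 2) - Cfsg.Agent.H464.PermIrr.pc (V ≃ₗ[K] V) (Gr K V 1)) := by
  have hf : ∀ k, Finite (Gr K V k) := fun k => by
    have : Finite (Submodule K V) := inferInstance
    exact Subtype.finite
  have := hf 1
  have := hf 2
  have hG : Finite (V ≃ₗ[K] V) := Finite.of_injective (fun g : V ≃ₗ[K] V => (g : V → V)) DFunLike.coe_injective
  exact Cfsg.Agent.H464.PermIrr.irr_sub _ _ _ hlt (orb_two hV) (orb_mixed hV) (orb_one hV) (by norm_num)

end Cfsg.Agent.H289.Eight
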