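import Cfsg.Agent.H289.Eight.RuDeg
import Cfsg.Agent.H471.Eight.CertRu
import Cfsg.Agent.H148.Ru.CentSeven
import Cfsg.Agent.H935.RuM.Elts

/-!
# The Rudvalis group has at least eight character degrees (helper289, S4899)

helper471's certificate `H471/Eight/CertRu` : the degrees 378, 406, 783, 3276 and the orders of the centralizers of the
elements of order 29, 13, 7 (helper436, helper148, helper935).
-/

set_option autoImplicit false
set_option maxRecDepth 100000
set_option exponentiation.threshold 5000

namespace Cfsg.Agent.H289.Eight.Ru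

open Cfsg Subgroup Cfsg.Agent.SporadicB Cfsg.Agent.RuD.Letters Cfsg.Agent.SporRec.TCUpperCert
open Cfsg.Agent.H664.Eight Cfsg.Agent.H935.RuM
open Cfsg.Agent.KFacts.Ru Cfsg.Agent.KFacts.Ru.CentEng Cfsg.Agent.CpAutRuFive.Eng

universe u

/-- the centralizer of `h` when a four-group commutes with `h` -/
theorem card_of_four {K : Type*} [Group K] [Finite K] {h v w : K} {p : ℕ} (hp : p.Prime) (hp2 : p ≠ 2) (hh : orderOf h = p)
    (hv : v * v = 1) (hv1 : v ≠ 1) (hw : w * w = 1) (hw1 : w ≠ 1) (hvw : v ≠ w) (cvw : v * w = w * v)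
    (cv : v * h = h * v) (cw : w * h = h * w) (hle : Nat.card (centralizer ({h} : Set K)) ≤ p * 4) :
    Nat.card (centralizer ({h} : Set K)) = p * 4 := by
  refine le_antisymm hle ?_
  let k : Bool × Bool → K := fun a => (if a.1 then v else 1) * (if a.2 then w else 1)
  have hk : ∀ a, k a * h = h * k a := by
    rintro ⟨a, b⟩
    cases a <;> cases b <;> simp only [k, if_true, if_false, one_mul, mul_one, Bool.false_eq_true]
    · exact cw
    · exact cv
    · rw [mul_assoc, cw, ← mul_assoc, cv, mul_assoc]
  have hk2 : ∀ a, k a * k a = 1 := by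
    rintro ⟨a, b⟩
    cases a <;> cases b <;> simp only [k, if_true, if_false, one_mul, mul_one, Bool.false_eq_true]
    · exact hw
    · exact hv
    · calc v * w * (v * w) = v * (w * v) * w := by group
        _ = (v * v) * (w * w) := by rw [← cvw]; group
        _ = 1 := by rw [hv, hw, one_mul]
  have hinj : Function.Injective k := by
    have n1 : v * w ≠ 1 := by
      intro e
      apply hvw
      have := congrArg (fun z => z * w) e
      simpa [mul_assoc, hw] using this
    have n2 : v * w ≠ v := by
      intro e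
      exact hw1 (mul_eq_left.1 e)
    have n3 : v * w ≠ w := by
      intro e
      exact hv1 (mul_eq_right.1 e)
    rintro ⟨a, b⟩ ⟨c, d⟩ e
    cases a <;> cases b <;> cases c <;> cases d <;>
      simp only [k, if_true, if_false, one_mul, mul_one, Bool.false_eq_true] at e <;>
      first
        | rfl
        | exact absurd e hv1
        | exact absurd e.symm hv1
        | exact absurd e hw1
        | exact absurd e.symm hw1
        | exact absurd e hvw
        | exact absurd e.symm hvw
        | exact absurd e n1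
        | exact absurd e.symm n1
        | exact absurd e n2
        | exact absurd e.symm n2
        | exact absurd e n3
        | exact absurd e.symm n3
  let φ : (Bool × Bool) × Fin p → centralizer ({h} : Set K) := fun a =>
    ⟨k a.1 * h ^ (a.2 : ℕ), by
      rw [mem_centralizer_singleton_iff]
      have c1 : Commute (k a.1) h := hk a.1
      exact (c1.mul_left ((Commute.refl h).pow_left _)).eq⟩
  have hφ : Function.Injective φ := by
    rintro ⟨a, i⟩ ⟨b, j⟩ e
    have e1 : k a * h ^ (i : ℕ) = k b * h ^ (j : ℕ) := congrArg Subtype.val e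
    have sq : ∀ (a : Bool × Bool) (i : ℕ), (k a * h ^ i) * (k a * h ^ i) = h ^ (2 * i) := by
      intro a i
      have c1 : Commute (h ^ i) (k a) := (Commute.pow_right (show Commute (k a) h from hk a) i).symm
      calc (k a * h ^ i) * (k a * h ^ i) = k a * (h ^ i * k a) * h ^ i := by group
        _ = k a * (k a * h ^ i) * h ^ i := by rw [c1.eq]
        _ = (k a * k a) * (h ^ i * h ^ i) := by group
        _ = h ^ (2 * i) := by rw [hk2, one_mul, ← pow_add, two_mul]
    have e2 : h ^ (2 * (i : ℕ)) = h ^ (2 * (j : ℕ)) := by rw [← sq a, ← sq b, e1]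
    rw [pow_inj_mod, hh] at e2
    have e3 : (i : ℕ) ≡ j [MOD p] := by
      exact Nat.ModEq.cancel_left_of_coprime ((Nat.coprime_primes hp Nat.prime_two).2 hp2) e2
    have e4 : i = j := Fin.ext (Nat.ModEq.eq_of_lt_of_lt e3 i.2 j.2)
    subst e4
    rw [hinj (mul_right_cancel e1)]
  have h1 := Nat.card_le_card_of_injective φ hφ
  simp only [Nat.card_eq_fintype_card, Fintype.card_prod, Fintype.card_bool, Fintype.card_fin] at h1
  omega

/-! ### The centralizers -/

theorem finite_H : Finite RuOrder.H := Cfsg.Agent.H690.Spor.Ru.instFiniteH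

theorem cen_eq (w : List ℕ) : centralizer ({wprod ml w} : Set RuOrder.H) = Cen [w] := by
  ext x
  rw [mem_centralizer_singleton_iff, mem_Cen]
  simp

/-- order 29 -/
theorem cent29 : Nat.card (centralizer ({wprod ml H436.RuCent.wA} : Set RuOrder.H)) = 29 * 1 := by
  have := finite_H
  have h1 : Nat.card ↥(centralizer ({wprod ml H436.RuCent.wA} : Set RuOrder.H)) ≤ 58 := by
    rw [cen_eq]; exact H436.RuCent.card_A
  have h2 : 29 ∣ Nat.card ↥(centralizer ({wprod ml H436.RuCent.wA} : Set RuOrder.H)) := by
    have h3 : (wprod ml H436.RuCent.wA : RuOrder.H) ∈ centralizer ({wprod ml H436.RuCent.wA} : Set RuOrder.H) :=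
      mem_centralizer_singleton_iff.2 rfl
    have := Subgroup.orderOf_dvd_natCard _ h3
    rwa [H436.RuCent.orderA] at this
  have h3 : ¬ 2 ∣ Nat.card ↥(centralizer ({wprod ml H436.RuCent.wA} : Set RuOrder.H)) := by
    intro h
    have hf : Fact (Nat.Prime 2) := ⟨Nat.prime_two⟩
    obtain ⟨t, ht⟩ := exists_prime_orderOf_dvd_card' 2 h
    rw [← Subgroup.orderOf_coe] at ht
    exact H393.Iso.na_ru ⟨RuLat.Main.equiv.symm⟩ _ _ H436.RuCent.orderA ht (mem_centralizer_singleton_iff.1 t.2).symm
  obtain ⟨c, hc⟩ := h2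
  have hc0 : Nat.card ↥(centralizer ({wprod ml H436.RuCent.wA} : Set RuOrder.H)) ≠ 0 := Nat.card_pos.ne'
  rw [hc] at h1 h3 hc0 ⊢
  have hc2 : c ≤ 2 := by omega
  interval_cases c <;> omega

theorem vv : P kv * P kv = 1 := by
  have h := eq_of_chkW (u := kv ++ kv) (w := []) (by decide +kernel)
  simpa only [P, wprod_append, wprod_nil] using h

theorem ww : P kw * P kw = 1 := by
  have h := eq_of_chkW (u := kw ++ kw) (w := []) (by decide +kernel)
  simpa only [P, wprod_append, wprod_nil] using h

theorem v_ne : P kv ≠ 1 := ne_of_eval (w := []) 0 (by norm_num) (by decide +kernel)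
theorem w_ne : P kw ≠ 1 := ne_of_eval (w := []) 0 (by norm_num) (by decide +kernel)
theorem vw_ne : P kv ≠ P kw := ne_of_eval 0 (by norm_num) (by decide +kernel)

theorem comm_of {a b : List ℕ} (h : chkW (a ++ b) (b ++ a) = true) : P a * P b = P b * P a := by
  have h1 := eq_of_chkW h
  simpa only [P, wprod_append] using h1

theorem cent13 : Nat.card (centralizer ({wprod ml H436.RuCent.wB} : Set RuOrder.H)) = 13 * 4 := by
  have := finite_H
  exact card_of_four (by norm_num) (by norm_num) H436.RuCent.orderB vv v_ne ww w_ne vw_ne (comm_of c_vw)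
    (comm_of (b := H436.RuCent.wB) (by decide +kernel)) (comm_of (b := H436.RuCent.wB) (by decide +kernel))
    (by rw [cen_eq]; exact H436.RuCent.card_B)

theorem cent7 : Nat.card (centralizer ({wprod ml H148.Ru.wC} : Set RuOrder.H)) = 7 * 4 := by
  have := finite_H
  exact card_of_four (by norm_num) (by norm_num) H148.Ru.orderC vv v_ne ww w_ne vw_ne (comm_of c_vw)
    (comm_of (b := H148.Ru.wC) (by decide +kernel)) (comm_of (b := H148.Ru.wC) (by decide +kernel))
    (by rw [cen_eq]; exact H148.Ru.card_C)

/-! ### The row -/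

theorem mem_of_equiv {A : Type u} [Group A] {B : Type*} [Group B] (e : A ≃* B) {d : ℕ} (h : d ∈ charDegrees B) :
    d ∈ charDegrees A := by
  obtain ⟨χ, rfl⟩ := h
  exact ⟨⟨(χ : B → ℂ) ∘ e.toMonoidHom, Characters.Core.isIrr_comp e.toMonoidHom e.surjective χ.2⟩, by
    change charDegree ((χ : B → ℂ) ∘ e.toMonoidHom) = _
    rw [Blocks.Basic.charDegree_def, Blocks.Basic.charDegree_def, Function.comp_apply, map_one]⟩

theorem eight_H : Eight RuOrder.H := by
  have := finite_H
  have hsim : IsSimpleGroup RuOrder.H := RuSimple.isSimpleGroup_H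
  refine H471.Eight.CertRu.eight RuOrder.card_H ?_ ?_
  · intro pk hpk
    simp only [List.mem_cons, List.not_mem_nil, or_false] at hpk
    rcases hpk with rfl | rfl | rfl
    · exact ⟨_, H436.RuCent.orderA, cent29⟩
    · exact ⟨_, H436.RuCent.orderB, cent13⟩
    · exact ⟨_, H148.Ru.orderC, cent7⟩
  · obtain ⟨χ₁, χ₂, d₁, d₂, -⟩ := RuDeg.exists_chars
    intro d hd
    simp only [List.mem_cons, List.not_mem_nil, or_false] at hd
    rcases hd with rfl | rfl | rfl | rfl
    · exact mem_of_equiv RuLat.Main.equiv.symm RuDeg.deg_378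
    · exact mem_of_equiv RuLat.Main.equiv.symm RuDeg.deg_406
    · exact ⟨χ₁, Blocks.Basic.charDegree_of_eq d₁⟩
    · exact ⟨χ₂, Blocks.Basic.charDegree_of_eq d₂⟩

/-- **`Ru`** -/
theorem eight_ru {S : Type u} [Group S] (h : Spor.IsoRu S) : Eight S := by
  obtain ⟨e⟩ := h
  exact Eight.of_equiv (e.trans RuLat.Main.equiv) eight_H

end Cfsg.Agent.H289.Eight.Ru
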