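import Cfsg.Agent.Characters.Core
import Cfsg.Agent.PermutationGroups.PermChar
import Cfsg.Agent.PermChar.SymAlt
import Cfsg.Agent.Blocks.Basic

/-!
# The symmetric and the alternating square of a representation with a large orbit of lines (helper289, S4899)

* `irr_sq` : if `|χ|²` has norm 2, the symmetric and the alternating square of `χ` are irreducible;
* `eq_add` : a representation `σ` of dimension `N` with a nonzero invariant functional and a nonconstant equivariant map
  to a permutation representation with character `1 + χ₁ + χ₂`, `χ₁ 1 = N - 1`, `χ₂ 1 > N`: its character is `1 + χ₁`.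
-/

set_option autoImplicit false

open scoped ComplexConjugate
open Cfsg Module

namespace Cfsg.Agent.H289.Eight.SqIrr

open Cfsg.Agent.Characters.Core Cfsg.Agent.PermutationGroups.PermChar

universe u

variable {X : Type u} [Group X]

/-- the symmetric square -/
noncomputable def symF (χ : X → ℂ) : X → ℂ := fun g => (χ g ^ 2 + χ (g * g)) / 2

/-- the alternating square -/
noncomputable def altF (χ : X → ℂ) : X → ℂ := fun g => (χ g ^ 2 - χ (g * g)) / 2

theorem irr_sq [Fintype X] {χ : X → ℂ} (hχ : IsCharacter X χ)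
    (h2 : classInner (fun g => χ g * conj (χ g)) (fun g => χ g * conj (χ g)) = 2) {n : ℕ} (hn : 2 ≤ n)
    (h1 : χ 1 = n) : IsIrrCharacter X (symF χ) ∧ IsIrrCharacter X (altF χ) := by
  have hS : IsCharacter X (symF χ) := PermChar.SymAlt.isCharacter_symSq hχ
  have hA : IsCharacter X (altF χ) := PermChar.SymAlt.isCharacter_altSq hχ
  obtain ⟨a, ha⟩ := classInner_isNat hS hS
  obtain ⟨b, hb⟩ := classInner_isNat hS hA
  obtain ⟨b', hb'⟩ := classInner_isNat hA hS
  obtain ⟨c, hc⟩ := classInner_isNat hA hA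
  have hsum : classInner (symF χ + altF χ) (symF χ + altF χ) = 2 := by
    rw [← h2, classInner_def, classInner_def]
    congr 1
    refine Finset.sum_congr rfl fun g _ => ?_
    have e : (symF χ + altF χ) g = χ g ^ 2 := by
      simp only [Pi.add_apply, symF, altF]
      ring
    rw [e, map_pow, map_mul, Complex.conj_conj]
    ring
  rw [classInner_add_left, classInner_add_right, classInner_add_right, ha, hb, hb', hc] at hsum
  have hsum' : a + b + (b' + c) = 2 := by exact_mod_cast hsum
  have hn' : (2 : ℝ) ≤ n := by exact_mod_cast hn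
  have hS1 : symF χ 1 ≠ 0 := by
    unfold symF
    rw [mul_one, h1]
    intro h
    have h3 : ((n : ℂ) ^ 2 + n) = 0 := by linear_combination 2 * h
    have h4 : n ^ 2 + n = 0 := by exact_mod_cast h3
    nlinarith
  have hA1 : altF χ 1 ≠ 0 := by
    unfold altF
    rw [mul_one, h1]
    intro h
    have h3 : ((n : ℂ) ^ 2) = n := by linear_combination 2 * h
    have h4 : n ^ 2 = n := by exact_mod_cast h3
    nlinarith
  have ha0 : a ≠ 0 := by
    rintro rfl
    rw [Nat.cast_zero] at ha
    exact hS1 (congrFun (classInner_self_eq_zero ha) 1)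
  have hc0 : c ≠ 0 := by
    rintro rfl
    rw [Nat.cast_zero] at hc
    exact hA1 (congrFun (classInner_self_eq_zero hc) 1)
  constructor
  · apply isIrr_of_classInner_self hS
    rw [ha, show a = 1 by omega, Nat.cast_one]
  · apply isIrr_of_classInner_self hA
    rw [hc, show c = 1 by omega, Nat.cast_one]

/-- the character of a representation whose constituents are bounded by the degree -/
theorem eq_of_inner [Fintype X] {θ χ₁ χ₂ : X → ℂ} (hθ : IsCharacter X θ) (h₁ : IsIrrCharacter X χ₁)
    (h₂ : IsIrrCharacter X χ₂) {n a b : ℕ} (hθ1 : θ 1 = (n + 1 : ℕ)) (hn : 2 ≤ n) (ha : χ₁ 1 = n) (hb : χ₂ 1 = b)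
    (hnb : n + 1 < b) (hm : classInner (1 : X → ℂ) θ = a) (ha0 : a ≠ 0)
    (hlt : ∃ k : ℕ, a < k ∧ classInner (1 + χ₁ + χ₂) θ = k) : θ = 1 + χ₁ := by
  classical
  have : Finite (IrrCharacter X) := finite_irr
  let _ := Fintype.ofFinite (IrrCharacter X)
  obtain ⟨m, hm'⟩ := isCharacter_iff.1 hθ
  let o : IrrCharacter X := ⟨1, isIrr_one⟩
  let p : IrrCharacter X := ⟨χ₁, h₁⟩
  let q : IrrCharacter X := ⟨χ₂, h₂⟩
  have hdeg : ∀ ψ : IrrCharacter X, (ψ : X → ℂ) 1 = (charDegree (ψ : X → ℂ) : ℂ) := fun ψ =>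
    Blocks.Basic.irr_one_eq_charDegree ψ.2
  have hpos : ∀ ψ : IrrCharacter X, 0 < charDegree (ψ : X → ℂ) := fun ψ => Blocks.Basic.charDegree_pos ψ.2
  have hdp : charDegree (p : X → ℂ) = n := Blocks.Basic.charDegree_of_eq ha
  have hdq : charDegree (q : X → ℂ) = b := Blocks.Basic.charDegree_of_eq hb
  have hdo : charDegree (o : X → ℂ) = 1 := Blocks.Basic.charDegree_of_eq (by simp [o])
  have inn : ∀ ψ : IrrCharacter X, classInner (ψ : X → ℂ) θ = m ψ := by
    intro ψ
    rw [← classInner_conj_symm, hm', classInner_sum_nsmul_irr, map_natCast]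
  have hmo : m o = a := by
    have h3 := inn o
    have h4 : classInner ((o : X → ℂ)) θ = a := hm
    rw [h4] at h3
    exact_mod_cast h3.symm
  have hop : o ≠ p := by
    intro h
    rw [← h, hdo] at hdp
    omega
  have htot : ∑ ψ : IrrCharacter X, m ψ * charDegree (ψ : X → ℂ) = n + 1 := by
    have h2 : ((∑ ψ : IrrCharacter X, m ψ * charDegree (ψ : X → ℂ) : ℕ) : ℂ) = ((n + 1 : ℕ) : ℂ) := by
      rw [← hθ1, hm']
      push_cast
      rw [Finset.sum_apply]
      refine Finset.sum_congr rfl fun ψ _ => ?_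
      rw [Pi.smul_apply, hdeg, nsmul_eq_mul]
    exact_mod_cast h2
  have hle : ∀ ψ : IrrCharacter X, m ψ * charDegree (ψ : X → ℂ) ≤ n + 1 := fun ψ => by
    rw [← htot]
    exact Finset.single_le_sum (f := fun ψ : IrrCharacter X => m ψ * charDegree (ψ : X → ℂ))
      (fun _ _ => Nat.zero_le _) (Finset.mem_univ ψ)
  have hmq : m q = 0 := by
    by_contra h
    have h3 := hle q
    rw [hdq] at h3
    have : 1 * b ≤ m q * b := Nat.mul_le_mul_right _ (Nat.pos_of_ne_zero h)
    omega
  have hmp : m p ≠ 0 := by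
    intro h
    obtain ⟨k, hk, hk'⟩ := hlt
    have h3 : classInner (1 + χ₁ + χ₂) θ = ((a + m p + m q : ℕ) : ℂ) := by
      rw [classInner_add_left, classInner_add_left]
      have h4 := inn o
      have h5 := inn p
      have h6 := inn q
      rw [hmo] at h4
      push_cast
      rw [← h4, ← h5, ← h6]
    rw [hk'] at h3
    have h4 : k = a + m p + m q := by exact_mod_cast h3
    omega
  have hp1 : m p * n ≤ n + 1 := by have := hle p; rwa [hdp] at this
  have hmp1 : m p = 1 := by
    by_contra h
    have h3 : 2 * n ≤ m p * n := Nat.mul_le_mul_right _ (by omega)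
    omega
  have hsplit : m o * charDegree (o : X → ℂ) + (m p * charDegree (p : X → ℂ) +
      ∑ ψ ∈ (Finset.univ.erase o).erase p, m ψ * charDegree (ψ : X → ℂ)) = n + 1 := by
    rw [Finset.add_sum_erase _ (fun ψ : IrrCharacter X => m ψ * charDegree (ψ : X → ℂ))
      (Finset.mem_erase.2 ⟨hop.symm, Finset.mem_univ p⟩),
      Finset.add_sum_erase _ (fun ψ : IrrCharacter X => m ψ * charDegree (ψ : X → ℂ)) (Finset.mem_univ o), htot]
  rw [hmo, hdo, hdp, hmp1] at hsplit
  have hmo1 : a = 1 := by omega
  have hrest : ∑ ψ ∈ (Finset.univ.erase o).erase p, m ψ * charDegree (ψ : X → ℂ) = 0 := by omega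
  have hz : ∀ ψ ∈ (Finset.univ.erase o).erase p, m ψ • (ψ : X → ℂ) = 0 := by
    intro ψ hψ
    have h3 := (Finset.sum_eq_zero_iff.1 hrest) ψ hψ
    have h4 : m ψ = 0 := by
      rcases Nat.mul_eq_zero.1 h3 with h | h
      · exact h
      · exact absurd h (hpos ψ).ne'
    rw [h4, zero_smul]
  rw [hm', ← Finset.add_sum_erase _ _ (Finset.mem_univ o),
    ← Finset.add_sum_erase (Finset.univ.erase o) _ (Finset.mem_erase.2 ⟨hop.symm, Finset.mem_univ p⟩),
    Finset.sum_eq_zero hz, hmo, hmo1, hmp1, one_smul, one_smul, add_zero]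

variable {P : Type*} [Fintype P] [MulAction X P] {W : Type*} [AddCommGroup W] [Module ℂ W] [FiniteDimensional ℂ W]

/-- the constant functions -/
def cst (X : Type*) [Group X] (P : Type*) [Fintype P] [MulAction X P] :
    (Representation.trivial ℂ X ℂ).IntertwiningMap (permRep ℂ X P) where
  toLinearMap :=
    { toFun := fun c _ => c
      map_add' := fun _ _ => rfl
      map_smul' := fun _ _ => rfl }
  isIntertwining' := fun _ => rfl

theorem cst_apply (c : ℂ) (x : P) : cst X P c x = c := rfl

theorem trivial_char : (Representation.trivial ℂ X ℂ).character = 1 := by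
  funext g
  change LinearMap.trace ℂ ℂ (LinearMap.id) = 1
  rw [LinearMap.trace_id, Module.finrank_self, Nat.cast_one]

/-- **The character of `σ`.** -/
theorem eq_add [Fintype X] (σ : Representation ℂ X W) (T : σ.IntertwiningMap (permRep ℂ X P)) {w : W} {x y : P}
    (hT : T w x ≠ T w y) (u : σ.IntertwiningMap (Representation.trivial ℂ X ℂ)) (hu : u ≠ 0) {χ₁ χ₂ : X → ℂ}
    (h₁ : IsIrrCharacter X χ₁) (h₂ : IsIrrCharacter X χ₂) {n b : ℕ} (hW : finrank ℂ W = n + 1) (hn : 2 ≤ n)
    (ha : χ₁ 1 = n) (hb : χ₂ 1 = b) (hnb : n + 1 < b)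
    (hπ : ∀ g : X, (Nat.card (MulAction.fixedBy P g) : ℂ) = 1 + χ₁ g + χ₂ g) : σ.character = 1 + χ₁ := by
  have hm := classInner_eq_finrank σ (Representation.trivial ℂ X ℂ)
  rw [trivial_char] at hm
  have hk := classInner_permChar (Ω := P) σ
  have hπ' : (fun g : X => (Nat.card (MulAction.fixedBy P g) : ℂ)) = 1 + χ₁ + χ₂ := by
    funext g
    rw [hπ g]
    rfl
  rw [hπ'] at hk
  have fin1 : Module.Finite ℂ (σ.IntertwiningMap (Representation.trivial ℂ X ℂ)) := inferInstance
  have fin2 : Module.Finite ℂ (σ.IntertwiningMap (permRep ℂ X P)) := inferInstance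
  refine eq_of_inner (Characters.Core.isCharacter_of_rep σ) h₁ h₂ (n := n) (b := b) ?_ hn ha hb hnb hm ?_ ⟨_, ?_, hk⟩
  · rw [Representation.char_one, hW]
  · intro h0
    have : Subsingleton (σ.IntertwiningMap (Representation.trivial ℂ X ℂ)) := Module.finrank_zero_iff.1 h0
    exact hu (Subsingleton.elim _ _)
  · let j : σ.IntertwiningMap (Representation.trivial ℂ X ℂ) →ₗ[ℂ] σ.IntertwiningMap (permRep ℂ X P) :=
      { toFun := fun f => (cst X P).comp f
        map_add' := fun f g => rfl
        map_smul' := fun c f => rfl }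
    have hj : Function.Injective j := by
      intro f g hfg
      apply Representation.IntertwiningMap.toLinearMap_injective
      apply LinearMap.ext
      intro v
      exact congrArg (fun z : σ.IntertwiningMap (permRep ℂ X P) => z v x) hfg
    have hr : LinearMap.range j ≠ ⊤ := by
      intro htop
      have hTm : T ∈ LinearMap.range j := htop ▸ Submodule.mem_top
      obtain ⟨f, hf⟩ := hTm
      apply hT
      rw [← hf]
      rfl
    have h3 := Submodule.finrank_lt hr
    rwa [LinearMap.finrank_range_of_inj hj] at h3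

end Cfsg.Agent.H289.Eight.SqIrr
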